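import Cfsg.Agent.Lib.AxialDesign.Basic

/-!
# Semiregular axial subgroups of a two-transitive symmetric design

The axial subgroup of a block is regular on the complement of the block.
-/

set_option autoImplicit false
set_option linter.unusedSectionVars false

namespace CfsgLib.AxialDesign

open Finset MulAction

variable {P B : Type*} [Fintype P] [Fintype B] [DecidableEq P]
variable {G : Type*} [Group G] [MulAction G P] [MulAction G B]

/-- For every block a non-trivial equivariant group fixing exactly that block pointwise. -/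
structure Axial (G : Type*) [Group G] [MulAction G P] [MulAction G B] (D : SD P B) where
  aut : D.IsAut G
  faithful : ∀ g : G, (∀ x : P, g • x = x) → g = 1
  T : B → Subgroup G
  fix : ∀ b, ∀ g ∈ T b, ∀ x ∈ D.pts b, g • x = x
  free : ∀ b, ∀ g ∈ T b, g ≠ 1 → ∀ x, x ∉ D.pts b → g • x ≠ x
  equiv : ∀ (g : G) (b : B), ∀ h ∈ T b, g * h * g⁻¹ ∈ T (g • b)
  ne_bot : ∀ b, T b ≠ ⊥
  pairs : ∀ b c b' c' : B, b ≠ c → b' ≠ c' → ∃ g : G, g • b = b' ∧ g • c = c'

namespace Axial

variable {D : SD P B} (A : Axial G D)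

theorem fix_iff {b : B} {g : G} (hg : g ∈ A.T b) (h1 : g ≠ 1) (x : P) : g • x = x ↔ x ∈ D.pts b :=
  ⟨fun h => by_contra fun hx => A.free b g hg h1 x hx h, A.fix b g hg x⟩

theorem smul_axis {b : B} {g : G} (hg : g ∈ A.T b) : g • b = b :=
  A.aut.smul_eq_of_fix_pts (A.fix b g hg)

theorem axis_unique {b c : B} {g : G} (hb : g ∈ A.T b) (hc : g ∈ A.T c) (hne : b ≠ c) : g = 1 := by
  by_contra h
  exact hne (D.pts_injective (Finset.ext fun x => (A.fix_iff hb h x).symm.trans (A.fix_iff hc h x)))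

theorem free_eq {b : B} {x y : G} (hx : x ∈ A.T b) (hy : y ∈ A.T b) {z : P} (hz : z ∉ D.pts b)
    (h : x • z = y • z) : x = y := by
  refine (inv_mul_eq_one.1 ?_).symm
  by_contra h1
  exact A.free b (y⁻¹ * x) (mul_mem (inv_mem hy) hx) h1 z hz (by rw [mul_smul, h, inv_smul_smul])

theorem mem_T_of_conj {b : B} {g x : G} (hg : g • b = b) (hx : x ∈ A.T b) : g⁻¹ * x * g ∈ A.T b := by
  have h := A.equiv g⁻¹ b x hx
  rwa [inv_inv, inv_smul_eq_iff.2 hg.symm] at h

theorem notMem_smul {b : B} {x : G} (hx : x ∈ A.T b) {z : P} (hz : z ∉ D.pts b) :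
    x • z ∉ D.pts b := fun h => hz (by
  have h2 := A.fix b x⁻¹ (inv_mem hx) _ h
  rw [inv_smul_smul] at h2
  exact h2.symm ▸ h)

variable [DecidableEq B]

theorem trace_smul {b : B} {x : G} (hx : x ∈ A.T b) (c : B) :
    D.pts (x • c) ∩ D.pts b = D.pts c ∩ D.pts b := by
  ext z
  simp only [Finset.mem_inter, and_congr_left_iff]
  intro hz
  rw [A.aut.mem_smul_iff, A.fix b x⁻¹ (inv_mem hx) z hz]

theorem smul_ne_axis {b c : B} {x : G} (hx : x ∈ A.T b) (hc : c ≠ b) : x • c ≠ b := fun h =>
  hc (by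
    have h2 := A.smul_axis (inv_mem hx)
    rw [← h, inv_smul_smul] at h2
    rw [h2, h])

/-- The stabiliser of a block in an axial group. -/
def stab (b c : B) : Subgroup G := A.T b ⊓ stabilizer G c

theorem mem_stab {b c : B} {g : G} : g ∈ A.stab b c ↔ g ∈ A.T b ∧ g • c = c := Iff.rfl

theorem stab_fix_orbit {b c : B} {h x : G} (hh : h ∈ A.stab b c) (hx : x ∈ A.T b) :
    h • x • c = x • c := by
  by_cases h1 : h = 1
  · rw [h1, one_smul]
  by_cases hc : c = b
  · rw [hc, A.smul_axis hx, A.smul_axis hh.1]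
  exact A.aut.fix_of_trace (A.fix_iff hh.1 h1) hc (A.smul_ne_axis hx hc) (A.trace_smul hx c).symm hh.2

theorem stab_orbit {b c : B} {x : G} (hx : x ∈ A.T b) : A.stab b (x • c) = A.stab b c := by
  refine le_antisymm (fun h hh => ?_) (fun h hh => ⟨hh.1, A.stab_fix_orbit hh hx⟩)
  have := A.stab_fix_orbit hh (inv_mem hx)
  rw [inv_smul_smul] at this
  exact ⟨hh.1, this⟩

/-- Two points of an orbit on a block lie in one stabiliser coset. -/
theorem mem_stab_of_two {b c : B} {x : G} (hx : x ∈ A.T b) (hc : c ≠ b) {q : P} (hq : q ∈ D.pts c)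
    (hqb : q ∉ D.pts b) (hxq : x • q ∈ D.pts c) : x ∈ A.stab b c := by
  refine ⟨hx, ?_⟩
  show x • c = c
  by_contra hne
  have hsub : insert (x • q) (D.pts c ∩ D.pts b) ⊆ D.pts c ∩ D.pts (x • c) := by
    intro w hw
    rcases Finset.mem_insert.1 hw with rfl | hw
    · exact mem_inter.2 ⟨hxq, (A.aut x q c).2 hq⟩
    · rw [← A.trace_smul hx c] at hw
      have h2 := mem_inter.1 hw
      rw [A.trace_smul hx c] at hw
      exact mem_inter.2 ⟨(mem_inter.1 hw).1, h2.1⟩
  have h2 := card_le_card hsub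
  rw [card_insert_of_notMem (fun h => A.notMem_smul hx hqb (mem_inter.1 h).2), D.inter c b hc,
    D.inter c _ (Ne.symm hne)] at h2
  omega

variable [Finite G]

theorem card_stab_eq {b c b' c' : B} (h : b ≠ c) (h' : b' ≠ c') :
    Nat.card (A.stab b c) = Nat.card (A.stab b' c') := by
  have key : ∀ b c b' c' : B, b ≠ c → b' ≠ c' → Nat.card (A.stab b c) ≤ Nat.card (A.stab b' c') := by
    intro b c b' c' h h'
    obtain ⟨g, hgb, hgc⟩ := A.pairs b c b' c' h h'
    refine Nat.card_le_card_of_injective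
      (fun x => (⟨g * x * g⁻¹, hgb ▸ A.equiv g b x x.2.1, ?_⟩ : A.stab b' c')) fun x y hxy => ?_
    · show (g * x * g⁻¹) • c' = c'
      rw [← hgc, mul_smul, inv_smul_smul, mul_smul, show (x : G) • c = c from x.2.2]
    · exact Subtype.ext (mul_left_cancel (mul_right_cancel (congrArg Subtype.val hxy)))
  exact le_antisymm (key _ _ _ _ h h') (key _ _ _ _ h' h)

theorem fix_blocks_card {b : B} {g : G} (hg : g ∈ A.T b) (h1 : g ≠ 1) :
    #(univ.filter fun c : B => g • c = c) = D.k := by
  rw [← A.aut.fix_eq, show (univ.filter fun x : P => g • x = x) = D.pts b from ?_, D.card_pts]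
  ext x; simp [A.fix_iff hg h1]

theorem sum_card_inter (b : B) {S : Subgroup G} (hS : S ≤ A.T b) :
    ∑ c ∈ univ.erase b, Nat.card (S ⊓ stabilizer G c : Subgroup G) =
      (Fintype.card B - 1) + (Nat.card S - 1) * (D.k - 1) := by
  classical
  cases nonempty_fintype G
  have hc : ∀ c : B, Nat.card (S ⊓ stabilizer G c : Subgroup G) = #(univ.filter fun g : G => g ∈ S ∧ g • c = c) := by
    intro c
    rw [Nat.card_eq_fintype_card, Fintype.card_subtype]
    exact congrArg _ (filter_congr fun g _ => Iff.rfl)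
  simp only [hc]
  have h := sum_card_bipartiteAbove_eq_sum_card_bipartiteBelow (s := univ.erase b)
    (t := univ.filter fun g : G => g ∈ S) (fun c g => g • c = c)
  simp only [bipartiteAbove, bipartiteBelow, filter_filter] at h
  rw [h, ← add_sum_erase _ _ (show (1 : G) ∈ univ.filter fun g : G => g ∈ S by simp [one_mem])]
  congr 1
  · simp [card_univ]
  · rw [sum_congr rfl (g := fun _ => D.k - 1), sum_const, smul_eq_mul,
      card_erase_of_mem (by simp [one_mem]), Nat.card_eq_fintype_card, Fintype.card_subtype]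
    intro g hg
    simp only [mem_erase, mem_filter, mem_univ, true_and] at hg
    rw [← A.fix_blocks_card (hS hg.2) hg.1, ← card_erase_of_mem (s := univ.filter fun c : B => g • c = c) (a := b)
      (by simp [A.smul_axis (hS hg.2)])]
    congr 1
    ext c; simp

theorem stab_inf (b c : B) : A.T b ⊓ stabilizer G c = A.stab b c := rfl

theorem sum_stab (b : B) {c : B} (hc : b ≠ c) :
    (Fintype.card B - 1) * Nat.card (A.stab b c) =
      (Fintype.card B - 1) + (Nat.card (A.T b) - 1) * (D.k - 1) := by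
  rw [← A.sum_card_inter b le_rfl]
  show _ = ∑ e ∈ univ.erase b, Nat.card (A.stab b e)
  rw [sum_congr rfl (g := fun _ => Nat.card (A.stab b c)) (fun e he =>
    A.card_stab_eq (ne_of_mem_erase he).symm hc), sum_const, smul_eq_mul,
    card_erase_of_mem (mem_univ b), card_univ]

theorem card_T_eq (b : B) {c : B} (hc : b ≠ c) :
    D.l * Nat.card (A.T b) + D.k = D.k * Nat.card (A.stab b c) + D.l := by
  have h := A.sum_stab b hc
  have h1 := D.basic_eq
  have h2 := D.le_card
  have h3 := D.two_le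
  have h4 : 1 ≤ Nat.card (A.T b) := Nat.card_pos
  have h5 := D.one_le_l
  rw [D.card_eq] at h
  zify [show 1 ≤ D.k by omega, h4, show 1 ≤ Fintype.card P by omega] at h h1 ⊢
  have h6 : ((D.k : ℤ) - 1) ≠ 0 := by omega
  have key : ((D.k : ℤ) - 1) * ((D.l * Nat.card (A.T b) + D.k) - (D.k * Nat.card (A.stab b c) + D.l)) = 0 := by
    linear_combination (-(D.l : ℤ)) * h + (-(Nat.card (A.stab b c) : ℤ) + 1) * h1
  have := (mul_eq_zero.1 key).resolve_left h6
  linarith

theorem commute_stab {b c : B} (hne : b ≠ c) {h g : G} (hh : h ∈ A.stab b c) (hg : g ∈ A.stab c b) :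
    g * h = h * g := by
  refine eq_of_div_eq_one (A.axis_unique (b := b) (c := c) ?_ ?_ hne)
  · rw [div_eq_mul_inv, mul_inv_rev, ← mul_assoc]
    have h1 := A.equiv g b h hh.1
    rw [show g • b = b from hg.2] at h1
    exact mul_mem h1 (inv_mem hh.1)
  · rw [div_eq_mul_inv, mul_inv_rev, ← mul_assoc, mul_assoc g h, mul_assoc g]
    have h1 := A.equiv h c g⁻¹ (inv_mem hg.1)
    rw [show h • c = c from hh.2] at h1
    exact mul_mem hg.1 h1

theorem fix_orbit_blocks {b c : B} (hne : b ≠ c) {g : G} (hg : g ∈ A.stab c b) {x : G}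
    (hx : x ∈ A.T b) : g • x • c = x • c := by
  by_cases h1 : g = 1
  · rw [h1, one_smul]
  by_cases hxc : x • c = c
  · rw [hxc, A.smul_axis hg.1]
  refine A.aut.fix_of_trace (A.fix_iff hg.1 h1) hne hxc ?_ hg.2
  have h2 : D.pts c ∩ D.pts b ⊆ D.pts (x • c) ∩ D.pts c := by
    intro z hz
    have hz' := hz
    rw [← A.trace_smul hx c] at hz'
    exact mem_inter.2 ⟨(mem_inter.1 hz').1, (mem_inter.1 hz).1⟩
  rw [inter_comm, eq_of_subset_of_card_le h2 (by rw [D.inter _ _ hxc, D.inter _ _ hne.symm])]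

/-- The conjugation commutator lands in the stabiliser. -/
theorem comm_mem_stab {b c : B} (hne : b ≠ c) {g : G} (hg : g ∈ A.stab c b) {x : G}
    (hx : x ∈ A.T b) : x⁻¹ * g⁻¹ * x * g ∈ A.stab b c := by
  refine ⟨show x⁻¹ * g⁻¹ * x * g ∈ A.T b from ?_, ?_⟩
  · rw [mul_assoc, mul_assoc, ← mul_assoc g⁻¹]
    exact mul_mem (inv_mem hx) (A.mem_T_of_conj hg.2 hx)
  · show (x⁻¹ * g⁻¹ * x * g) • c = c
    rw [mul_smul, A.smul_axis hg.1, mul_smul, mul_smul,
      inv_smul_eq_iff.2 (A.fix_orbit_blocks hne hg hx).symm, inv_smul_smul]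

theorem comm_injective {b c : B} {x : G} (hxc : x • c ≠ c)
    {g g' : G} (hg : g ∈ A.stab c b) (hg' : g' ∈ A.stab c b)
    (h : x⁻¹ * g⁻¹ * x * g = x⁻¹ * g'⁻¹ * x * g') : g = g' := by
  have h' : x⁻¹ * (g⁻¹ * x * g) = x⁻¹ * (g'⁻¹ * x * g') := by simpa only [mul_assoc] using h
  have h2 := mul_left_cancel h'
  obtain ⟨u, hu⟩ : ∃ u, u = g' * g⁻¹ := ⟨_, rfl⟩
  have hux : u * x = x * u := by
    rw [hu]
    calc g' * g⁻¹ * x = g' * (g⁻¹ * x * g) * g⁻¹ := by group
      _ = g' * (g'⁻¹ * x * g') * g⁻¹ := by rw [h2]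
      _ = x * (g' * g⁻¹) := by group
  by_contra hgg
  have hu1 : u ≠ 1 := fun e => hgg (mul_inv_eq_one.1 (hu ▸ e)).symm
  have huT : u ∈ A.T c := hu ▸ mul_mem hg'.1 (inv_mem hg.1)
  refine hxc (D.pts_injective (Finset.ext fun z => ?_))
  rw [A.aut.mem_smul_iff, ← A.fix_iff huT hu1, ← A.fix_iff huT hu1]
  constructor
  · intro e
    calc u • z = (u * x) • x⁻¹ • z := by rw [mul_smul, smul_inv_smul]
      _ = z := by rw [hux, mul_smul, e, smul_inv_smul]
  · intro e
    calc u • x⁻¹ • z = x⁻¹ • (x * u) • x⁻¹ • z := by rw [mul_smul, inv_smul_smul]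
      _ = x⁻¹ • z := by rw [← hux, mul_smul u x, smul_inv_smul, e]

open Classical in
/-- The number of blocks whose orbit is kept. -/
noncomputable def nkeep (b : B) (g : G) : ℕ :=
  #((univ.erase b).filter fun d => ∃ x ∈ A.T b, x • d = g • d)

open Classical in
/-- The elements of the second group keeping the orbit of a block. -/
noncomputable def keep [Fintype G] (b c d : B) : Finset G :=
  univ.filter fun g => g ∈ A.stab c b ∧ ∃ x ∈ A.T b, x • d = g • d

theorem card_keep_le [Fintype G] {b c d : B} (hne : b ≠ c) (hd : d ≠ b) :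
    #(A.keep b c d) ≤ Nat.card (A.stab b c ⊓ stabilizer G d : Subgroup G) := by
  classical
  by_cases hcase : A.stab b d ≤ A.stab b c
  · have hge : Nat.card (A.stab b c) ≤ Nat.card (A.stab b c ⊓ stabilizer G d : Subgroup G) := by
      rw [A.card_stab_eq hne hd.symm]
      exact Subgroup.card_le_of_le (fun g hg => ⟨hcase hg, hg.2⟩)
    refine le_trans ?_ hge
    rw [← A.card_stab_eq hne.symm hne, Nat.card_eq_fintype_card, Fintype.card_subtype]
    exact card_le_card fun g hg => by
      simp only [keep, mem_filter, mem_univ, true_and] at hg ⊢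
      exact hg.1
  obtain ⟨x, hxd, hxc⟩ := SetLike.not_le_iff_exists.1 hcase
  have hxc' : x • c ≠ c := fun e => hxc ⟨hxd.1, e⟩
  rw [Nat.card_eq_fintype_card, Fintype.card_subtype]
  refine card_le_card_of_injOn (fun g => x⁻¹ * g⁻¹ * x * g) (fun g hg => ?_) (fun g hg g' hg' h => ?_)
  · simp only [keep, coe_filter, Set.mem_ofPred_eq, mem_univ, true_and] at hg
    obtain ⟨hg, y, hy, hyd⟩ := hg
    have h1 := A.comm_mem_stab hne hg hxd.1
    simp only [coe_filter, Set.mem_ofPred_eq, mem_univ, true_and]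
    refine ⟨h1, ?_⟩
    show (x⁻¹ * g⁻¹ * x * g) • d = d
    rw [mul_smul, mul_smul, mul_smul, ← hyd, A.stab_fix_orbit hxd hy, hyd, inv_smul_smul,
      inv_smul_eq_iff, show x • d = d from hxd.2]
  · simp only [keep, coe_filter, Set.mem_ofPred_eq, mem_univ, true_and] at hg hg'
    exact A.comm_injective hxc' hg.1 hg'.1 h

open Classical in
/-- The points moved into the orbit of a block. -/
noncomputable def sweep [Fintype G] (b c : B) : Finset P :=
  ((univ.filter fun x : G => x ∈ A.T b) ×ˢ (D.pts c \ D.pts b)).image fun p => p.1 • p.2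

theorem card_sweep [Fintype G] {b c : B} (hne : b ≠ c) :
    #(A.sweep b c) * Nat.card (A.stab b c) = Nat.card (A.T b) * (D.k - D.l) := by
  classical
  have h := card_eq_sum_card_image (fun p : G × P => p.1 • p.2)
    ((univ.filter fun x : G => x ∈ A.T b) ×ˢ (D.pts c \ D.pts b))
  rw [sum_congr rfl (g := fun _ => Nat.card (A.stab b c)), sum_const, smul_eq_mul, card_product,
    card_sdiff, D.card_pts, D.inter b c hne, ← Fintype.card_subtype, ← Nat.card_eq_fintype_card] at h
  · exact h.symm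
  intro z hz
  simp only [mem_image, mem_product, mem_filter, mem_univ, true_and, mem_sdiff] at hz
  obtain ⟨⟨x₀, q₀⟩, ⟨hx₀, hq₀⟩, rfl⟩ := hz
  rw [Nat.card_eq_fintype_card, Fintype.card_subtype]
  refine card_bij (fun p _ => p.1⁻¹ * x₀) (fun p hp => ?_) (fun p hp p' hp' e => ?_) (fun s hs => ?_)
  · simp only [mem_filter, mem_product, mem_univ, true_and, mem_sdiff] at hp ⊢
    refine A.mem_stab_of_two (mul_mem (inv_mem hp.1.1) hx₀) hne.symm hq₀.1 hq₀.2 ?_
    rw [mul_smul, ← hp.2, inv_smul_smul]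
    exact hp.1.2.1
  · simp only [mem_filter, mem_product, mem_univ, true_and, mem_sdiff] at hp hp'
    have e1 : p.1 = p'.1 := inv_injective (mul_right_cancel e)
    refine Prod.ext e1 (smul_left_cancel p.1 ?_)
    rw [hp.2, e1, hp'.2]
  · simp only [mem_filter, mem_univ, true_and] at hs
    refine ⟨(x₀ * s⁻¹, s • q₀), ?_, by group⟩
    simp only [mem_filter, mem_product, mem_univ, true_and, mem_sdiff]
    exact ⟨⟨mul_mem hx₀ (inv_mem hs.1), A.aut.mem_of_fix hs.2 hq₀.1, A.notMem_smul hs.1 hq₀.2⟩,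
      by rw [mul_smul, inv_smul_smul]⟩

open Classical in
/-- The twisted orbit count. -/
theorem twisted_le [Fintype G] {b c : B} (hne : b ≠ c) {g : G} (hg : g ∈ A.stab c b) :
    Nat.card (A.T b) * D.l + #(A.sweep b c) ≤ Nat.card (A.T b) + Nat.card (A.stab b c) *
      A.nkeep b g := by
  classical
  unfold nkeep
  set TT := univ.filter fun x : G => x ∈ A.T b with hTT
  have hTcard : Nat.card (A.T b) = #TT := by rw [Nat.card_eq_fintype_card, Fintype.card_subtype]
  have h := sum_card_bipartiteAbove_eq_sum_card_bipartiteBelow (s := TT) (t := (univ : Finset P))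
    (fun x z => (x * g) • z = z)
  have h' := sum_card_bipartiteAbove_eq_sum_card_bipartiteBelow (s := TT) (t := (univ : Finset B))
    (fun x d => (x * g) • d = d)
  simp only [bipartiteAbove, bipartiteBelow] at h h'
  rw [sum_congr rfl (fun x _ => A.aut.fix_eq (x * g)), h'] at h
  have hlow : #TT * D.l + #(A.sweep b c) ≤ ∑ z : P, #(TT.filter fun x => (x * g) • z = z) := by
    have hdisj : Disjoint (D.pts b ∩ D.pts c) (A.sweep b c) := by
      rw [Finset.disjoint_left]
      intro z hz hz'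
      simp only [sweep, mem_image, mem_product, mem_filter, mem_univ, true_and, mem_sdiff] at hz'
      obtain ⟨⟨x, q⟩, ⟨hx, hq⟩, rfl⟩ := hz'
      exact A.notMem_smul hx hq.2 (mem_inter.1 hz).1
    refine le_trans ?_ (sum_le_sum_of_subset (subset_univ ((D.pts b ∩ D.pts c) ∪ A.sweep b c)))
    rw [sum_union hdisj, ← D.inter b c hne, mul_comm, ← smul_eq_mul, ← sum_const,
      card_eq_sum_ones (A.sweep b c)]
    refine add_le_add (sum_le_sum fun z hz => ?_) (sum_le_sum fun z hz => ?_)
    · refine le_of_eq (congrArg _ (filter_true_of_mem fun x hx => ?_)).symm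
      rw [mul_smul, A.fix c g hg.1 z (mem_inter.1 hz).2]
      exact A.fix b x (mem_filter.1 hx).2 z (mem_inter.1 hz).1
    · simp only [sweep, mem_image, mem_product, mem_filter, mem_univ, true_and, mem_sdiff] at hz
      obtain ⟨⟨x, q⟩, ⟨hx, hq⟩, rfl⟩ := hz
      refine card_pos.2 ⟨x * (g * x * g⁻¹)⁻¹, ?_⟩
      have h1 := A.equiv g b x hx
      rw [show g • b = b from hg.2] at h1
      simp only [hTT, mem_filter, mem_univ, true_and]
      refine ⟨mul_mem hx (inv_mem h1), ?_⟩
      calc (x * (g * x * g⁻¹)⁻¹ * g) • x • q = (x * g) • q := by rw [← mul_smul]; congr 1; group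
        _ = x • q := by rw [mul_smul, A.fix c g hg.1 q hq.1]
  rw [hTcard]
  refine hlow.trans (le_of_eq (h.symm.trans ?_))
  rw [← add_sum_erase _ _ (mem_univ b), filter_true_of_mem (fun x hx => by
    rw [mul_smul, show g • b = b from hg.2]; exact A.smul_axis (mem_filter.1 hx).2),
    mul_comm (Nat.card _), ← smul_eq_mul, ← sum_const, sum_filter]
  congr 1
  refine sum_congr rfl fun d hd => ?_
  split_ifs with hex
  · obtain ⟨x₀, hx₀, hxd⟩ := hex
    rw [A.card_stab_eq hne (ne_of_mem_erase hd).symm, Nat.card_eq_fintype_card, Fintype.card_subtype]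
    refine card_bij (fun x _ => x * x₀) (fun x hx => ?_) (fun x _ y _ e => mul_right_cancel e) (fun s hs => ?_)
    · simp only [hTT, mem_filter, mem_univ, true_and] at hx ⊢
      refine ⟨mul_mem hx.1 hx₀, ?_⟩
      show (x * x₀) • d = d
      rw [mul_smul, hxd, ← mul_smul, hx.2]
    · simp only [mem_filter, mem_univ, true_and] at hs
      refine ⟨s * x₀⁻¹, ?_, inv_mul_cancel_right s x₀⟩
      simp only [hTT, mem_filter, mem_univ, true_and]
      refine ⟨mul_mem hs.1 (inv_mem hx₀), ?_⟩
      rw [mul_smul, mul_smul, ← hxd, inv_smul_smul]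
      exact hs.2
  · refine Finset.card_eq_zero.2 (filter_eq_empty_iff.2 fun x hx e => hex ⟨x⁻¹, inv_mem (mem_filter.1 hx).2, ?_⟩)
    rw [mul_smul] at e
    rw [inv_smul_eq_iff, e]

theorem two_le_stab {b c : B} (hne : b ≠ c) : 2 ≤ Nat.card (A.stab b c) := by
  by_contra h
  have h1 : Nat.card (A.stab b c) = 1 := by have : 0 < Nat.card (A.stab b c) := Nat.card_pos; omega
  have h2 := A.card_T_eq b hne
  rw [h1] at h2
  have h3 : 1 < Nat.card (A.T b) := (Subgroup.one_lt_card_iff_ne_bot _).2 (A.ne_bot b)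
  have := D.one_le_l
  nlinarith

open Classical in
theorem sum_nkeep_le [Fintype G] {b c : B} (hne : b ≠ c) :
    ∑ g ∈ univ.filter (fun g : G => g ∈ A.stab c b), A.nkeep b g ≤
      (Fintype.card B - 1) + (Nat.card (A.stab b c) - 1) * (D.k - 1) := by
  have h := sum_card_bipartiteAbove_eq_sum_card_bipartiteBelow
    (s := univ.filter (fun g : G => g ∈ A.stab c b)) (t := univ.erase b)
    (fun g d => ∃ x ∈ A.T b, x • d = g • d)
  simp only [bipartiteAbove, bipartiteBelow] at h
  simp only [nkeep]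
  refine le_trans (le_of_eq ?_) (le_trans (le_of_eq h) ?_)
  · exact sum_congr rfl fun g _ => by congr 1; ext d; simp
  rw [← A.sum_card_inter b (S := A.stab b c) inf_le_left]
  refine sum_le_sum fun d hd => le_trans (le_of_eq ?_) (A.card_keep_le hne (ne_of_mem_erase hd))
  simp only [keep, filter_filter]

theorem nkeep_one (b : B) : A.nkeep b (1 : G) = Fintype.card B - 1 := by
  classical
  rw [nkeep, filter_true_of_mem (fun d _ => ⟨1, one_mem _, rfl⟩), card_erase_of_mem (mem_univ b), card_univ]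

theorem nkeep_lower [Fintype G] {b c : B} (hne : b ≠ c) {g : G} (hg : g ∈ A.stab c b) :
    Nat.card (A.T b) * D.l * Nat.card (A.stab b c) + Nat.card (A.T b) * (D.k - D.l) ≤
      Nat.card (A.T b) * Nat.card (A.stab b c) + Nat.card (A.stab b c) * Nat.card (A.stab b c) * A.nkeep b g := by
  classical
  rw [← A.card_sweep hne]
  have h := A.twisted_le hne hg
  nlinarith [Nat.mul_le_mul_left (Nat.card (A.stab b c)) h]

/-- The stabiliser of a block has order `k - l`, and the axial group is regular. -/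
theorem regular {b c : B} (hne : b ≠ c) :
    Nat.card (A.stab b c) + D.l = D.k ∧ Nat.card (A.T b) + D.k = Fintype.card P := by
  classical
  cases nonempty_fintype G
  have h1 := A.card_T_eq b hne
  have h2 := A.two_le_stab hne
  obtain ⟨t, ht⟩ : Nat.card (A.stab b c) ∣ Nat.card (A.T b) := Subgroup.card_dvd_of_le inf_le_left
  set s := Nat.card (A.stab b c) with hs
  have hS : #(univ.filter fun g : G => g ∈ A.stab c b) = s := by
    rw [← Fintype.card_subtype, ← Nat.card_eq_fintype_card]
    exact A.card_stab_eq hne.symm hne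
  have hup := A.sum_nkeep_le hne
  rw [← add_sum_erase _ _ (show (1 : G) ∈ univ.filter (fun g : G => g ∈ A.stab c b) by simp [one_mem]),
    A.nkeep_one, ← hs] at hup
  have hup' : ∑ g ∈ (univ.filter fun g : G => g ∈ A.stab c b).erase 1, A.nkeep b g ≤ (s - 1) * (D.k - 1) := by
    omega
  have hlo : (s - 1) * (Nat.card (A.T b) * D.l * s + Nat.card (A.T b) * (D.k - D.l)) ≤
      (s - 1) * (Nat.card (A.T b) * s) + s * s * ((s - 1) * (D.k - 1)) := by
    refine le_trans (le_of_eq ?_) (le_trans (sum_le_sum (s := (univ.filter fun g : G => g ∈ A.stab c b).erase 1)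
      (fun g hg => A.nkeep_lower hne (mem_filter.1 (mem_of_mem_erase hg)).2))
      (le_trans (le_of_eq ?_) (Nat.add_le_add_left (Nat.mul_le_mul_left (s * s) hup') _)))
    · rw [sum_const, card_erase_of_mem (by simp [one_mem]), hS, smul_eq_mul]
    · rw [sum_add_distrib, sum_const, card_erase_of_mem (by simp [one_mem]), hS, smul_eq_mul, ← mul_sum]
  rw [ht] at hlo h1
  have hk := D.l_lt
  have h3 : 0 < t := by
    rcases Nat.eq_zero_or_pos t with h | h
    · have : 0 < Nat.card (A.T b) := Nat.card_pos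
      rw [ht, h, mul_zero] at this
      omega
    · exact h
  zify [show 1 ≤ s by omega, show 1 ≤ D.k by omega, hk.le] at hlo h1
  have hE : (s : ℤ) * (D.k - D.l * t) = D.k - D.l := by linear_combination -h1
  have hs0 : (0 : ℤ) < s := by omega
  have hE1 : (1 : ℤ) ≤ D.k - D.l * t := by
    by_contra hc
    push Not at hc
    nlinarith [mul_nonneg hs0.le (show (0 : ℤ) ≤ -(D.k - D.l * t) by linarith)]
  have hmain : ((t : ℤ) - 1) * (D.k - D.l * t - 1) ≤ 0 := by
    by_contra hc
    push Not at hc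
    have hpos : (0 : ℤ) < ((s : ℤ) - 1) * (s * s) * (((t : ℤ) - 1) * (D.k - D.l * t - 1)) := by
      have : (2 : ℤ) ≤ s := by exact_mod_cast h2
      exact mul_pos (mul_pos (by linarith) (mul_pos hs0 hs0)) hc
    have hz : ((s : ℤ) - 1) * (s * s) * (((t : ℤ) - 1) * (D.k - D.l * t - 1)) ≤ 0 := by
      rw [← hE] at hlo
      linarith [hlo]
    linarith
  have ht2 : 2 ≤ t := by
    by_contra hc
    rw [show t = 1 by omega] at hE hE1
    have hs2 : (2 : ℤ) ≤ s := by exact_mod_cast h2
    push_cast at hE hE1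
    rw [mul_one] at hE
    nlinarith [mul_pos (show (0 : ℤ) < s - 1 by linarith) (show (0 : ℤ) < (D.k : ℤ) - D.l by
      exact_mod_cast (by omega : (D.l : ℤ) < D.k) |> sub_pos.2)]
  have hE2 : (D.k : ℤ) - D.l * t = 1 := by
    have : (2 : ℤ) ≤ t := by exact_mod_cast ht2
    nlinarith
  have hb := D.basic_eq
  have hle := D.le_card
  have hl := D.one_le_l
  refine ⟨?_, ?_⟩
  · rw [hE2, mul_one] at hE
    omega
  · rw [ht]
    have : (D.l : ℤ) * ((s * t : ℕ) + D.k) = D.l * Fintype.card P := by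
      push_cast
      zify at hb
      rw [hE2, mul_one] at hE
      linear_combination h1 + hb + (D.k : ℤ) * hE
    have h5 : (((s * t : ℕ) : ℤ) + D.k) = Fintype.card P := mul_left_cancel₀ (by omega) this
    exact_mod_cast h5

end Axial

end CfsgLib.AxialDesign
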