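import Mathlib

/-!
# Symmetric designs with a group of automorphisms

The counting facts used for Ito's theorem on two-transitive groups with an unfaithful
subgroup orbit.
-/

set_option autoImplicit false

namespace CfsgLib.AxialDesign

open Finset MulAction

/-- A symmetric design, blocks given by their point sets. -/
structure SD (P B : Type*) [Fintype P] [Fintype B] [DecidableEq P] where
  pts : B → Finset P
  k : ℕ
  l : ℕ
  card_pts : ∀ b, #(pts b) = k
  card_thru : ∀ x, #(univ.filter fun b => x ∈ pts b) = k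
  pair : ∀ x y, x ≠ y → #(univ.filter fun b => x ∈ pts b ∧ y ∈ pts b) = l
  inter : ∀ b c, b ≠ c → #(pts b ∩ pts c) = l
  l_lt : l < k
  two_le : 2 ≤ k
  le_card : k + 2 ≤ Fintype.card P

variable {P B : Type*} [Fintype P] [Fintype B] [DecidableEq P]

namespace SD

variable (D : SD P B)

theorem card_eq (D : SD P B) : Fintype.card B = Fintype.card P := by
  have h := sum_card_bipartiteAbove_eq_sum_card_bipartiteBelow (s := (univ : Finset B))
    (t := (univ : Finset P)) (fun b x => x ∈ D.pts b)
  simp only [bipartiteAbove, bipartiteBelow, filter_mem_eq_inter, univ_inter, D.card_pts,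
    D.card_thru, sum_const, smul_eq_mul, card_univ] at h
  exact Nat.eq_of_mul_eq_mul_right (by have := D.two_le; omega) h

/-- `k (k - 1) = l (n - 1)`, without subtraction. -/
theorem basic_eq : D.k * D.k + D.l = D.l * Fintype.card P + D.k := by
  classical
  obtain ⟨x⟩ : Nonempty P := Fintype.card_pos_iff.1 (by have := D.le_card; omega)
  have h := sum_card_bipartiteAbove_eq_sum_card_bipartiteBelow
    (s := univ.filter fun b => x ∈ D.pts b) (t := (univ : Finset P)) (fun b y => y ∈ D.pts b)
  simp only [bipartiteAbove, bipartiteBelow, filter_mem_eq_inter, univ_inter, D.card_pts,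
    sum_const, smul_eq_mul, D.card_thru, filter_filter] at h
  rw [← add_sum_erase _ _ (mem_univ x), sum_congr rfl (fun y hy => D.pair x y (ne_of_mem_erase hy).symm)] at h
  simp only [and_self, D.card_thru, sum_const, smul_eq_mul, card_erase_of_mem (mem_univ x), card_univ] at h
  obtain ⟨n, hn⟩ : ∃ n, Fintype.card P = n + 1 := ⟨Fintype.card P - 1, by have := D.le_card; omega⟩
  rw [hn] at h ⊢
  rw [Nat.add_sub_cancel] at h
  nlinarith [h]

theorem one_le_l : 1 ≤ D.l := by
  rcases Nat.eq_zero_or_pos D.l with h | h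
  · have h1 := D.basic_eq
    rw [h] at h1
    have h2 := D.two_le
    nlinarith
  · exact h

theorem k_ne_succ : D.k ≠ D.l + 1 := by
  intro h
  have h1 := D.basic_eq
  have h2 := D.le_card
  have h3 := D.one_le_l
  rw [h] at h1 h2
  nlinarith

theorem pts_injective {b c : B} (h : D.pts b = D.pts c) : b = c := by
  by_contra hne
  have h1 := D.inter b c hne
  rw [h, inter_self, D.card_pts] at h1
  exact D.l_lt.ne' h1

theorem thru_injective {x y : P} (h : ∀ b, x ∈ D.pts b ↔ y ∈ D.pts b) : x = y := by
  by_contra hne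
  have h1 := D.pair x y hne
  rw [filter_congr (fun b _ => (and_congr_left' (h b)).trans (and_self_iff)), D.card_thru] at h1
  exact D.l_lt.ne' h1

theorem exists_notMem (b : B) : ∃ x, x ∉ D.pts b := by
  have h : #(D.pts b) < Fintype.card P := by rw [D.card_pts]; have := D.le_card; omega
  by_contra hc
  push Not at hc
  rw [eq_univ_of_forall hc, card_univ] at h
  exact h.false

theorem exists_mem (b : B) : ∃ x, x ∈ D.pts b :=
  card_pos.1 (by rw [D.card_pts]; have := D.two_le; omega)

theorem exists_block_notMem (x : P) : ∃ b, x ∉ D.pts b := by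
  by_contra hc
  push Not at hc
  have h := D.card_thru x
  rw [filter_true_of_mem (fun b _ => hc b), card_univ, D.card_eq] at h
  have := D.le_card
  omega

theorem exists_block_mem (x : P) : ∃ b, x ∈ D.pts b := by
  obtain ⟨b, hb⟩ := card_pos.1 (show 0 < #(univ.filter fun b => x ∈ D.pts b) by
    rw [D.card_thru]; have := D.two_le; omega)
  exact ⟨b, (mem_filter.1 hb).2⟩

variable {G : Type*} [Group G] [MulAction G P] [MulAction G B]

/-- `G` acts by automorphisms of the design. -/
def IsAut (G : Type*) [Group G] [MulAction G P] [MulAction G B] (D : SD P B) : Prop :=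
  ∀ (g : G) (x : P) (b : B), g • x ∈ D.pts (g • b) ↔ x ∈ D.pts b

variable {D} [DecidableEq B]

omit [DecidableEq B] in
theorem IsAut.mem_of_fix {g : G} (hA : D.IsAut G) {x : P} {b : B} (hb : g • b = b) (hx : x ∈ D.pts b) :
    g • x ∈ D.pts b := by
  have := (hA g x b).2 hx
  rwa [hb] at this

omit [DecidableEq B] in
theorem IsAut.mem_smul_iff (hA : D.IsAut G) (g : G) (x : P) (b : B) :
    x ∈ D.pts (g • b) ↔ g⁻¹ • x ∈ D.pts b := by
  conv_rhs => rw [← hA g]
  rw [smul_inv_smul]

omit [DecidableEq B] in
/-- An element fixing every point of a block fixes the block. -/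
theorem IsAut.smul_eq_of_fix_pts (hA : D.IsAut G) {g : G} {b : B}
    (h : ∀ x ∈ D.pts b, g • x = x) : g • b = b := by
  refine D.pts_injective (eq_of_subset_of_card_le (fun x hx => ?_)
    (by rw [D.card_pts, D.card_pts])).symm |>.symm
  by_contra hne
  rw [hA.mem_smul_iff] at hx
  have h2 := h _ hx
  rw [smul_inv_smul] at h2
  exact hne (h2.symm ▸ hx)

/-- An element fixes as many points as blocks. -/
theorem IsAut.fix_eq (hA : D.IsAut G) (g : G) :
    #(univ.filter fun x : P => g • x = x) = #(univ.filter fun b : B => g • b = b) := by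
  classical
  have hx : ∀ x : P, #(univ.filter fun b => x ∈ D.pts b ∧ g • x ∈ D.pts b) =
      D.l + (if g • x = x then D.k - D.l else 0) := by
    intro x
    by_cases h : g • x = x
    · rw [if_pos h]
      simp only [h, and_self, D.card_thru]
      have := D.l_lt
      omega
    · rw [if_neg h, D.pair x _ (Ne.symm h), add_zero]
  have hb : ∀ b : B, #(univ.filter fun x => x ∈ D.pts b ∧ g • x ∈ D.pts b) =
      D.l + (if g • b = b then D.k - D.l else 0) := by
    intro b
    by_cases h : g • b = b
    · rw [if_pos h, show (univ.filter fun x => x ∈ D.pts b ∧ g • x ∈ D.pts b) = D.pts b from ?_,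
        D.card_pts]
      · have := D.l_lt
        omega
      · ext x
        simp only [mem_filter, mem_univ, true_and, and_iff_left_iff_imp]
        exact fun hx => hA.mem_of_fix h hx
    · rw [if_neg h, add_zero, ← D.inter b (g⁻¹ • b) (fun e => h (eq_inv_smul_iff.1 e))]
      congr 1
      ext x
      simp only [mem_filter, mem_univ, true_and, mem_inter, hA.mem_smul_iff, inv_inv]
  have h := sum_card_bipartiteAbove_eq_sum_card_bipartiteBelow (s := (univ : Finset P))
    (t := (univ : Finset B)) (fun x b => x ∈ D.pts b ∧ g • x ∈ D.pts b)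
  simp only [bipartiteAbove, bipartiteBelow, hx, hb, sum_add_distrib, sum_const, smul_eq_mul,
    card_univ, D.card_eq, ← sum_filter, add_right_inj] at h
  exact Nat.eq_of_mul_eq_mul_right (by have := D.l_lt; omega) h

/-- A fixed block through a fixed point's complement: the number of fixed blocks through `q`
when exactly the points of a block are fixed. -/
theorem IsAut.fixed_iff (hA : D.IsAut G) {g : G} {b : B} (hfix : ∀ x, g • x = x ↔ x ∈ D.pts b)
    {q : P} (hq : q ∉ D.pts b) (c : B) (hqc : q ∈ D.pts c) :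
    g • c = c ↔ g • q ∈ D.pts c := by
  classical
  refine ⟨fun hc => hA.mem_of_fix hc hqc, fun hc => ?_⟩
  set F := univ.filter fun c : B => g • c = c with hF
  have hFk : #F = D.k := by
    rw [← hA.fix_eq, show (univ.filter fun x : P => g • x = x) = D.pts b from ?_, D.card_pts]
    ext x; simp [hfix]
  have hbF : b ∈ F := by simp [hF, hA.smul_eq_of_fix_pts fun x hx => (hfix x).2 hx]
  have hle : ∀ y ∈ (D.pts b)ᶜ, #(F.filter fun c => y ∈ D.pts c) ≤ D.l := by
    intro y hy
    rw [← D.pair y (g • y) (fun e => mem_compl.1 hy ((hfix y).1 e.symm))]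
    refine card_le_card fun c hc => ?_
    simp only [hF, mem_filter, mem_univ, true_and] at hc ⊢
    exact ⟨hc.2, hA.mem_of_fix hc.1 hc.2⟩
  have h := sum_card_bipartiteAbove_eq_sum_card_bipartiteBelow (s := (D.pts b)ᶜ) (t := F)
    (fun y c => y ∈ D.pts c)
  simp only [bipartiteAbove, bipartiteBelow] at h
  rw [← add_sum_erase _ _ hbF] at h
  have h0 : (D.pts b)ᶜ.filter (fun y => y ∈ D.pts b) = ∅ := by ext y; simp
  rw [h0, card_empty, zero_add, sum_congr rfl (fun c hc => show
    #((D.pts b)ᶜ.filter fun y => y ∈ D.pts c) = D.k - D.l from ?_), sum_const, smul_eq_mul,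
    card_erase_of_mem hbF, hFk] at h
  swap
  · rw [filter_mem_eq_inter, inter_comm, ← sdiff_eq_inter_compl, card_sdiff, D.card_pts, inter_comm,
      D.inter _ _ (ne_of_mem_erase hc)]
  have htot : (D.k - 1) * (D.k - D.l) = #(D.pts b)ᶜ * D.l := by
    have h1 := D.basic_eq
    have h2 := D.l_lt
    have h3 := D.le_card
    rw [card_compl, D.card_pts]
    zify [h2.le, show 1 ≤ D.k by omega, show D.k ≤ Fintype.card P by omega] at h1 ⊢
    linear_combination h1
  rw [htot] at h
  have heq := (sum_eq_sum_iff_of_le hle).1 (by rw [h, sum_const, smul_eq_mul]) q (mem_compl.2 hq)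
  have hsub : F.filter (fun c => q ∈ D.pts c) =
      univ.filter fun c => q ∈ D.pts c ∧ g • q ∈ D.pts c := by
    refine eq_of_subset_of_card_le (fun c hc => ?_) ?_
    · simp only [hF, mem_filter, mem_univ, true_and] at hc ⊢
      exact ⟨hc.2, hA.mem_of_fix hc.1 hc.2⟩
    · rw [heq, D.pair q (g • q) (fun e => hq ((hfix q).1 e.symm))]
  have hmem : c ∈ F.filter (fun c => q ∈ D.pts c) := by
    rw [hsub]; simp [hqc, hc]
  simpa [hF] using (mem_filter.1 hmem).1

/-- Whether an axial element fixes a block depends only on the trace on the axis. -/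
theorem IsAut.fix_of_trace (hA : D.IsAut G) {g : G} {b : B} (hfix : ∀ x, g • x = x ↔ x ∈ D.pts b)
    {c c' : B} (hc : c ≠ b) (hc' : c' ≠ b) (htr : D.pts c ∩ D.pts b = D.pts c' ∩ D.pts b)
    (hgc : g • c = c) : g • c' = c' := by
  classical
  set F := univ.filter fun c : B => g • c = c with hF
  have hFk : #F = D.k := by
    rw [← hA.fix_eq, show (univ.filter fun x : P => g • x = x) = D.pts b from ?_, D.card_pts]
    ext x; simp [hfix]
  have key : ∀ e : B, e ≠ b → ∑ z ∈ D.pts e ∩ D.pts b, #(F.filter fun f => z ∈ D.pts f) +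
      (D.k - D.l) * D.l = D.k * D.l + (if e ∈ F then D.k - D.l else 0) := by
    intro e he
    have h := sum_card_bipartiteAbove_eq_sum_card_bipartiteBelow (s := D.pts e) (t := F)
      (fun z f => z ∈ D.pts f)
    simp only [bipartiteAbove, bipartiteBelow, filter_mem_eq_inter] at h
    rw [← sum_inter_add_sum_sdiff _ (D.pts b) (fun z => #(F.filter fun f => z ∈ D.pts f))] at h
    have h1 : ∑ z ∈ D.pts e \ D.pts b, #(F.filter fun f => z ∈ D.pts f) = (D.k - D.l) * D.l := by
      rw [sum_congr rfl (g := fun _ => D.l), sum_const, smul_eq_mul, card_sdiff, D.card_pts,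
        D.inter b e he.symm]
      intro z hz
      have hz2 := (mem_sdiff.1 hz).2
      rw [← D.pair z (g • z) (fun e' => hz2 ((hfix z).1 e'.symm))]
      congr 1
      ext f
      simp only [hF, mem_filter, mem_univ, true_and]
      exact ⟨fun h => ⟨h.2, hA.mem_of_fix h.1 h.2⟩,
        fun h => ⟨(hA.fixed_iff hfix hz2 f h.1).2 h.2, h.1⟩⟩
    rw [h1] at h
    rw [h, sum_congr rfl (g := fun f => D.l + if f = e then D.k - D.l else 0), sum_add_distrib,
      sum_const, smul_eq_mul, sum_ite_eq', hFk]
    intro f _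
    by_cases hfe : f = e
    · rw [if_pos hfe, hfe, inter_self, D.card_pts]
      have := D.l_lt
      omega
    · rw [if_neg hfe, D.inter _ _ (Ne.symm hfe), add_zero]
  have h1 := key c hc
  have h2 := key c' hc'
  rw [htr, h2, if_pos (show c ∈ F by simp [hF, hgc])] at h1
  by_contra hne
  rw [if_neg (show c' ∉ F by simp [hF, hne])] at h1
  have := D.l_lt
  omega

/-- An automorphism fixing a block pointwise and two further points fixes everything. -/
theorem IsAut.eq_one_of_two_fix (hA : D.IsAut G) {g : G} {b : B} (hb : ∀ x ∈ D.pts b, g • x = x)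
    {p p' : P} (hp : p ∉ D.pts b) (hp' : p' ∉ D.pts b) (hne : p ≠ p') (hgp : g • p = p)
    (hgp' : g • p' = p') (x : P) : g • x = x := by
  classical
  have hthru : ∀ z, z ∉ D.pts b → g • z = z → ∀ c, z ∈ D.pts c → g • c = c := by
    intro z hz hgz c hc
    by_contra hne'
    have hcb : c ≠ b := fun e => hz (e ▸ hc)
    have h := D.inter c (g • c) (Ne.symm hne')
    have hsub : insert z (D.pts c ∩ D.pts b) ⊆ D.pts c ∩ D.pts (g • c) := by
      intro w hw
      rcases mem_insert.1 hw with rfl | hw
      · exact mem_inter.2 ⟨hc, by rw [← hgz]; exact (hA g _ c).2 hc⟩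
      · refine mem_inter.2 ⟨(mem_inter.1 hw).1, ?_⟩
        rw [← hb w (mem_inter.1 hw).2]
        exact (hA g _ c).2 (mem_inter.1 hw).1
    have h2 := card_le_card hsub
    rw [card_insert_of_notMem (fun hw => hz (mem_inter.1 hw).2), h, D.inter c b hcb] at h2
    omega
  have hpt : ∀ z, z ∉ D.pts b → g • z = z → ∀ c, g • c = c → z ∉ D.pts c → ∀ w ∈ D.pts c, g • w = w := by
    intro z hz hgz c hc hzc w hw
    by_contra hne'
    have hwz : w ≠ z := fun e => hzc (e ▸ hw)
    have h := D.pair w (g • w) (Ne.symm hne')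
    have hsub : insert c (univ.filter fun f => w ∈ D.pts f ∧ z ∈ D.pts f) ⊆
        univ.filter fun f => w ∈ D.pts f ∧ g • w ∈ D.pts f := by
      intro f hf
      rcases mem_insert.1 hf with rfl | hf
      · simp [hw, hA.mem_of_fix hc hw]
      · simp only [mem_filter, mem_univ, true_and] at hf ⊢
        exact ⟨hf.1, hA.mem_of_fix (hthru z hz hgz f hf.2) hf.1⟩
    have h2 := card_le_card hsub
    rw [card_insert_of_notMem (by simp [hzc]), h, D.pair w z hwz] at h2
    omega
  by_contra hx
  have hxb : x ∉ D.pts b := fun h => hx (hb x h)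
  have hall : ∀ c, x ∈ D.pts c → g • c = c → (p ∈ D.pts c ∧ p' ∈ D.pts c) := fun c hxc hc =>
    ⟨by_contra fun h => hx (hpt p hp hgp c hc h x hxc),
     by_contra fun h => hx (hpt p' hp' hgp' c hc h x hxc)⟩
  have hxp : x ≠ p := fun e => hx (e ▸ hgp)
  have hset : (univ.filter fun c => x ∈ D.pts c ∧ p ∈ D.pts c) =
      univ.filter fun c => p ∈ D.pts c ∧ p' ∈ D.pts c := by
    refine eq_of_subset_of_card_le (fun c hc => ?_) (by rw [D.pair _ _ hne, D.pair _ _ hxp])
    simp only [mem_filter, mem_univ, true_and] at hc ⊢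
    exact hall c hc.1 (hthru p hp hgp c hc.2)
  obtain ⟨c, hc⟩ := card_pos.1 (show 0 < #(univ.filter fun c => p ∈ D.pts c ∧ p' ∈ D.pts c) by
    rw [D.pair _ _ hne]; exact D.one_le_l)
  simp only [mem_filter, mem_univ, true_and] at hc
  have hgc := hthru p hp hgp c hc.1
  have hsub : (D.pts b)ᶜ ⊆ D.pts c \ D.pts b := by
    intro y hy
    rw [mem_compl] at hy
    refine mem_sdiff.2 ⟨?_, hy⟩
    by_cases hgy : g • y = y
    · by_contra hyc
      exact hx (hpt y hy hgy c hgc hyc x (by
        have : c ∈ univ.filter fun c => x ∈ D.pts c ∧ p ∈ D.pts c := by rw [hset]; simp [hc]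
        exact (mem_filter.1 this).2.1))
    · have hyp : y ≠ p := fun e => hgy (e ▸ hgp)
      have hset' : (univ.filter fun c => y ∈ D.pts c ∧ p ∈ D.pts c) =
          univ.filter fun c => p ∈ D.pts c ∧ p' ∈ D.pts c := by
        refine eq_of_subset_of_card_le (fun f hf => ?_) (by rw [D.pair _ _ hne, D.pair _ _ hyp])
        simp only [mem_filter, mem_univ, true_and] at hf ⊢
        exact ⟨hf.2, by_contra fun h => hgy (hpt p' hp' hgp' f (hthru p hp hgp f hf.2) h y hf.1)⟩
      have : c ∈ univ.filter fun c => y ∈ D.pts c ∧ p ∈ D.pts c := by rw [hset']; simp [hc]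
      exact (mem_filter.1 this).2.1
  have hcb : c ≠ b := fun e => hp (e ▸ hc.1)
  have h1 := card_le_card hsub
  rw [card_compl, card_sdiff, D.card_pts, D.card_pts, D.inter b c hcb.symm] at h1
  have h2 := D.basic_eq
  have h3 := D.le_card
  have h4 := D.l_lt
  have h5 := D.k_ne_succ
  obtain ⟨j, hj⟩ : ∃ j, Fintype.card P = D.k + j := ⟨Fintype.card P - D.k, by omega⟩
  obtain ⟨i, hi⟩ : ∃ i, D.k = D.l + i := ⟨D.k - D.l, by omega⟩
  have hji : j ≤ i := by omega
  rw [hj, hi] at h2
  nlinarith

end SD

end CfsgLib.AxialDesign
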