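import Cfsg.Agent.Lib.AxialDesign.Space
import Cfsg.Agent.Lib.OstromWagner.Desargues

/-!
# Coordinates for a symmetric design with axial groups
-/

set_option autoImplicit false
set_option linter.unusedSectionVars false
set_option linter.style.haveILetI false

namespace CfsgLib.AxialDesign

open Finset MulAction Matrix

variable {P B : Type*} [Fintype P] [Fintype B] [DecidableEq P]

/-- The points are the points of a projective space, the blocks hyperplanes. -/
def SD.Coordinates (D : SD P B) : Prop :=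
  ∃ (F : Type) (_ : Field F) (_ : Fintype F) (m : ℕ) (φ : P → Fin (m + 1) → F),
    2 ≤ m ∧ (∀ x, φ x ≠ 0) ∧
      Fintype.card P * (Fintype.card F - 1) + 1 = Fintype.card F ^ (m + 1) ∧
      ∀ b, ∃ w : Fin (m + 1) → F, w ≠ 0 ∧ ∀ x, x ∈ D.pts b ↔ w ⬝ᵥ φ x = 0

/-- Coordinates over any finite field give coordinates over a field in the lowest universe. -/
theorem SD.coordinates_of_field (D : SD P B) {K : Type*} [Field K] [Finite K] (m : ℕ) (hm : 2 ≤ m)
    (φ : P → Fin (m + 1) → K) (hφ : ∀ x, φ x ≠ 0)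
    (hcard : Fintype.card P * (Nat.card K - 1) + 1 = Nat.card K ^ (m + 1))
    (hb : ∀ b, ∃ w : Fin (m + 1) → K, w ≠ 0 ∧ ∀ x, x ∈ D.pts b ↔ w ⬝ᵥ φ x = 0) :
    D.Coordinates := by
  classical
  cases nonempty_fintype K
  obtain ⟨q, hqK⟩ := CharP.exists K
  obtain ⟨s, hq, hs⟩ := FiniteField.card K q
  haveI : Fact q.Prime := ⟨hq⟩
  letI : Fintype (GaloisField q s) := Fintype.ofFinite _
  have hFK : Fintype.card K = Fintype.card (GaloisField q s) := by
    rw [hs, ← Nat.card_eq_fintype_card, GaloisField.card q s s.ne_zero]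
  let ρ : K ≃+* GaloisField q s := FiniteField.ringEquivOfCardEq hFK
  refine ⟨GaloisField q s, inferInstance, inferInstance, m, fun x i => ρ (φ x i), hm,
    fun x h => hφ x (funext fun i => ρ.injective ((congrFun h i).trans (map_zero ρ).symm)), ?_, fun b => ?_⟩
  · rw [Nat.card_eq_fintype_card] at hcard
    rw [← hFK, hcard]
  obtain ⟨w, hw, h⟩ := hb b
  refine ⟨fun i => ρ (w i), fun e => hw (funext fun i => ρ.injective ((congrFun e i).trans (map_zero ρ).symm)),
    fun x => ?_⟩
  rw [h x, ← map_eq_zero_iff ρ ρ.injective]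
  simp [dotProduct]

variable [DecidableEq B] {G : Type*} [Group G] [Finite G] [MulAction G P] [MulAction G B]

namespace Axial

variable {D : SD P B} (A : Axial G D)

theorem exists_T_smul (b : B) {q₀ q : P} (h₀ : q₀ ∉ D.pts b) (hq : q ∉ D.pts b) :
    ∃ x ∈ A.T b, x • q₀ = q := by
  classical
  obtain ⟨c, hc⟩ := Fintype.exists_ne_of_one_lt_card (by rw [D.card_eq]; have := D.le_card; omega) b
  have h := (A.regular (Ne.symm hc)).2
  let f : A.T b → {z : P // z ∉ D.pts b} := fun x => ⟨(x : G) • q₀, A.notMem_smul x.2 h₀⟩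
  have hf : Function.Bijective f := by
    refine (Nat.bijective_iff_injective_and_card f).2
      ⟨fun x y e => Subtype.ext (A.free_eq x.2 y.2 h₀ (congrArg Subtype.val e)), ?_⟩
    rw [Nat.card_eq_fintype_card (α := {z : P // z ∉ D.pts b}), Fintype.card_subtype_compl, Fintype.card_coe, D.card_pts]
    omega
  obtain ⟨x, hx⟩ := hf.2 ⟨q, hq⟩
  exact ⟨x, x.2, congrArg Subtype.val hx⟩

include A in
theorem coordinates_of_two_le (hl : 2 ≤ D.l) (b : B) : D.Coordinates := by
  classical
  haveI : Fact (2 ≤ D.l) := ⟨hl⟩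
  set S := A.ts b with hSdef
  obtain ⟨c₀, hc₀⟩ := A.exists_ne_block b
  obtain ⟨h1, h2, h3, h4, h5, h6⟩ := A.params hc₀.symm
  have hs : Nat.card (A.stab b c₀) = D.k - D.l := by omega
  have hK : Nat.card S.kernel = A.tt := S.card_kernel
  haveI : Finite S.kernel := Nat.finite_of_card_ne_zero (by rw [hK]; omega)
  haveI : Module.Finite S.kernel (A.V b) := Module.Finite.of_finite
  set m := Module.finrank S.kernel (A.V b)
  let bas := Module.finBasis S.kernel (A.V b)
  have hV : Nat.card (A.V b) = A.tt ^ m := by rw [Module.natCard_eq_pow_finrank (K := S.kernel), hK]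
  have hVT : Nat.card (A.V b) = Nat.card (A.T b) := Nat.card_congr Additive.toMul
  have hst : Nat.card (A.stab b c₀) * A.tt = A.tt ^ m := by rw [← hV, hVT, h2]
  have hs2 := A.two_le_stab hc₀.symm
  have hm : 2 ≤ m := by
    by_contra hm
    push Not at hm
    interval_cases m
    · rw [pow_zero, mul_eq_one] at hst
      omega
    · rw [pow_one] at hst
      nlinarith
  obtain ⟨q₀, hq₀⟩ := D.exists_notMem b
  choose τ hτT hτ using fun q (hq : q ∉ D.pts b) => A.exists_T_smul b hq₀ hq
  choose v hv0 hv using fun x (hx : x ∈ D.pts b) => A.exists_vec hx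
  let vec : P → A.V b := fun x => if h : x ∈ D.pts b then v x h else A.vmk (τ x h) (hτT x h)
  let top : P → S.kernel := fun x => if x ∈ D.pts b then 0 else 1
  refine D.coordinates_of_field (K := S.kernel) m hm (fun x => Fin.cons (top x) (bas.repr (vec x)))
    (fun x h => ?_) ?_ (fun c => ?_)
  · by_cases hx : x ∈ D.pts b
    · refine hv0 x hx (bas.repr.map_eq_zero_iff.1 (Finsupp.ext fun i => ?_))
      simpa [vec, hx] using congrFun h i.succ
    · simpa [top, hx] using congrFun h 0
  · rw [hK, h5, h2, h3, pow_succ', ← hst]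
    obtain ⟨t, ht⟩ : ∃ t, A.tt = t + 1 := ⟨A.tt - 1, by omega⟩
    rw [ht, Nat.add_sub_cancel]
    rw [h3, ht] at h1
    nlinarith [h1]
  · by_cases hcb : c = b
    · subst hcb
      refine ⟨Fin.cons 1 0, fun e => one_ne_zero (congrFun e 0), fun x => ?_⟩
      by_cases hx : x ∈ D.pts c <;> simp [dotProduct, Fin.sum_univ_succ, top, hx]
    obtain ⟨qc, hqc, hqcb⟩ : ∃ q ∈ D.pts c, q ∉ D.pts b := by
      by_contra hcon
      push Not at hcon
      exact hcb (D.pts_injective (eq_of_subset_of_card_le hcon (by rw [D.card_pts, D.card_pts])))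
    have hX : A.HX b c ∈ S.H := A.mem_ts.2 ⟨c, hcb, rfl⟩
    obtain ⟨x₀, hx₀⟩ := S.exists_notMem_pt hX
    obtain ⟨α, hα1, hα⟩ := S.exists_form hX hx₀
    set u := A.vmk (τ qc hqcb) (hτT qc hqcb) with hu
    refine ⟨Fin.cons (-α u) fun i => α (bas i), fun e => ?_, fun x => ?_⟩
    · have : α x₀ = 0 := by
        rw [← bas.sum_repr x₀, map_sum]
        refine sum_eq_zero fun i _ => ?_
        rw [map_smul, show α (bas i) = 0 by simpa using congrFun e i.succ, smul_zero]
      exact one_ne_zero (hα1.symm.trans this)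
    · have hdot : (Fin.cons (-α u) fun i => α (bas i) : Fin (m + 1) → S.kernel) ⬝ᵥ
          Fin.cons (top x) (bas.repr (vec x)) = α (vec x) - top x * α u := by
        conv_rhs => rw [← bas.sum_repr (vec x), map_sum]
        simp only [dotProduct, Fin.sum_univ_succ, Fin.cons_zero, Fin.cons_succ, map_smul, smul_eq_mul]
        rw [sum_congr rfl fun i _ => mul_comm (α (bas i)) (bas.repr (vec x) i)]
        ring
      rw [hdot]
      by_cases hx : x ∈ D.pts b
      · simp only [vec, top, hx, dite_true, if_true, zero_mul, sub_zero]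
        rw [hv x hx c hcb, hα]
      · simp only [vec, top, hx, dite_false, if_false, one_mul]
        rw [← map_sub, hα, A.mem_HX, A.val_sub]
        show _ ↔ τ x hx * (τ qc hqcb)⁻¹ ∈ A.stab b c
        have he : (τ x hx * (τ qc hqcb)⁻¹) • qc = x := by
          conv_lhs => arg 2; rw [← hτ qc hqcb]
          rw [mul_smul, inv_smul_smul, hτ x hx]
        constructor
        · intro hxc
          exact A.mem_stab_of_two (mul_mem (hτT x hx) (inv_mem (hτT qc hqcb))) hcb hqc hqcb (by rw [he]; exact hxc)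
        · intro h
          rw [← he]
          exact A.aut.mem_of_fix h.2 hqc

include A in
theorem coordinates_of_plane (hl : D.l = 1) (h2 : CfsgLib.OstromWagner.TwoTrans G P) : D.Coordinates := by
  classical
  letI : Membership P B := ⟨fun c x => x ∈ D.pts c⟩
  have hmem : ∀ (x : P) (c : B), x ∈ c ↔ x ∈ D.pts c := fun _ _ => Iff.rfl
  have huniq : ∀ {p p' : P} {c c' : B}, p ∈ c → p' ∈ c → p ∈ c' → p' ∈ c' → p = p' ∨ c = c' := by
    intro p p' c c' h1 h2 h3 h4
    by_contra h
    push Not at h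
    have := D.inter c c' h.2
    rw [hl, card_eq_one] at this
    obtain ⟨z, hz⟩ := this
    have e1 : p ∈ ({z} : Finset P) := hz ▸ mem_inter.2 ⟨h1, h3⟩
    have e2 : p' ∈ ({z} : Finset P) := hz ▸ mem_inter.2 ⟨h2, h4⟩
    exact h.1 ((mem_singleton.1 e1).trans (mem_singleton.1 e2).symm)
  have hpt : ∀ {c c' : B}, c ≠ c' → ∃ p : P, p ∈ c ∧ p ∈ c' := fun {c c'} h => by
    obtain ⟨p, hp⟩ := card_pos.1 (show 0 < #(D.pts c ∩ D.pts c') by rw [D.inter c c' h, hl]; exact one_pos)
    exact ⟨p, mem_inter.1 hp⟩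
  have hline : ∀ {p p' : P}, p ≠ p' → ∃ c : B, p ∈ c ∧ p' ∈ c := fun {p p'} h => by
    obtain ⟨c, hc⟩ := card_pos.1 (show 0 < #(univ.filter fun c => p ∈ D.pts c ∧ p' ∈ D.pts c) by
      rw [D.pair p p' h, hl]; exact one_pos)
    exact ⟨c, (mem_filter.1 hc).2⟩
  letI : Configuration.ProjectivePlane P B :=
    { exists_point := fun c => D.exists_notMem c
      exists_line := fun x => D.exists_block_notMem x
      eq_or_eq := huniq
      mkPoint := fun h => (hpt h).choose
      mkPoint_ax := fun h => (hpt h).choose_spec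
      mkLine := fun h => (hline h).choose
      mkLine_ax := fun h => (hline h).choose_spec
      exists_config := by
        have hk : 3 ≤ D.k := by
          have := D.k_ne_succ
          have := D.two_le
          omega
        obtain ⟨l₂⟩ : Nonempty B := Fintype.card_pos_iff.1 (by rw [D.card_eq]; have := D.le_card; omega)
        obtain ⟨p₁, h12⟩ := D.exists_notMem l₂
        obtain ⟨p₂, h22, p₃, h32, h23⟩ := one_lt_card.1 (show 1 < #(D.pts l₂) by rw [D.card_pts]; omega)
        -- a second line through `p₂` avoiding `p₁`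
        obtain ⟨l₀, hl₀1, hl₀2⟩ := hline (show p₁ ≠ p₂ from fun e => h12 (e ▸ h22))
        obtain ⟨l₃, hl₃⟩ : ∃ l₃, l₃ ∈ ((univ.filter fun c => p₂ ∈ D.pts c).erase l₂).erase l₀ := by
          refine card_pos.1 ?_
          have := pred_card_le_card_erase (s := (univ.filter fun c => p₂ ∈ D.pts c).erase l₂) (a := l₀)
          rw [card_erase_of_mem (by simpa using h22), D.card_thru] at this
          omega
        simp only [mem_erase, mem_filter, mem_univ, true_and] at hl₃
        obtain ⟨hl₃0, hl₃2, h23'⟩ := hl₃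
        have hp13 : p₁ ∉ l₃ := fun h => (huniq hl₀1 hl₀2 h h23').elim (fun e => h12 (e ▸ h22)) (Ne.symm hl₃0)
        have hp33 : p₃ ∉ l₃ := fun h => (huniq (show p₂ ∈ l₂ from h22) h32 h23' h).elim h23 (Ne.symm hl₃2)
        obtain ⟨q, hq2, hq2', hq3⟩ : ∃ q ∈ D.pts l₂, q ≠ p₂ ∧ q ≠ p₃ := by
          obtain ⟨q, hq⟩ : ((D.pts l₂).erase p₂).erase p₃ |>.Nonempty := by
            refine card_pos.1 ?_
            rw [card_erase_of_mem (mem_erase.2 ⟨h23.symm, h32⟩), card_erase_of_mem h22, D.card_pts]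
            omega
          simp only [mem_erase] at hq
          exact ⟨q, hq.2.2, hq.2.1, hq.1⟩
        have hne : p₁ ≠ q := fun e => h12 (e ▸ hq2)
        obtain ⟨l₁, hl11, hl1q⟩ := hline hne
        have hl12 : l₁ ≠ l₂ := fun e => h12 (e ▸ hl11)
        exact ⟨p₁, p₂, p₃, l₁, l₂, l₃, h12, hp13,
          fun h => (huniq h hl1q (show p₂ ∈ l₂ from h22) hq2).elim (Ne.symm hq2') hl12, h22, h23',
          fun h => (huniq h hl1q (show p₃ ∈ l₂ from h32) hq2).elim (Ne.symm hq3) hl12, h32, hp33⟩ }
  haveI : CfsgLib.OstromWagner.IsColl G P B := ⟨A.aut, A.faithful⟩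
  obtain ⟨F, iF, iFF, φ, hφ, -⟩ := CfsgLib.OstromWagner.desarguesian (G := G) (P := P) (L := B) h2
  refine D.coordinates_of_field (K := F) 2 le_rfl (fun x => (φ x).rep) (fun x => (φ x).rep_nonzero) ?_ fun c => ?_
  · rw [← Nat.card_eq_fintype_card (α := P), Nat.card_congr φ,
      Projectivization.card_of_finrank F _ (Module.finrank_fin_fun F)]
    obtain ⟨t, ht⟩ : ∃ t, Nat.card F = t + 1 := ⟨Nat.card F - 1, by have := Nat.card_pos (α := F); omega⟩
    simp only [Finset.sum_range_succ, Finset.sum_range_zero, ht, Nat.add_sub_cancel]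
    ring
  obtain ⟨W, hW, hWc⟩ := hφ c
  obtain ⟨f, hf0, hfW⟩ : ∃ f : Module.Dual F (Fin 3 → F), f ≠ 0 ∧ W ≤ LinearMap.ker f := by
    have hlt : W < ⊤ := lt_top_iff_ne_top.2 fun e => by
      rw [e, finrank_top, Module.finrank_fin_fun] at hW
      omega
    exact W.exists_le_ker_of_lt_top hlt
  have hker : LinearMap.ker f = W := by
    refine (Submodule.eq_of_le_of_finrank_le hfW ?_).symm
    have h := f.finrank_range_add_finrank_ker
    rw [Module.finrank_fin_fun, LinearMap.range_eq_top.2 (LinearMap.surjective hf0), finrank_top,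
      Module.finrank_self] at h
    omega
  have hdot : ∀ z : Fin 3 → F, (fun i => f (Pi.single i 1)) ⬝ᵥ z = f z := fun z => by
    conv_rhs => rw [pi_eq_sum_univ' z, map_sum]
    simp [dotProduct, mul_comm]
  refine ⟨fun i => f (Pi.single i 1), fun e => hf0 (LinearMap.ext fun z => ?_), fun x => ?_⟩
  · rw [← hdot, e, zero_dotProduct, LinearMap.zero_apply]
  · rw [hdot, ← hmem, hWc x, Projectivization.submodule_eq, Submodule.span_singleton_le_iff_mem, ← hker,
      LinearMap.mem_ker]

end Axial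

end CfsgLib.AxialDesign
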