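import Mathlib

/-!
# A field from a family of hyperplanes with transvections

An abelian group with a family of subgroups carrying transvections is a vector space over a
finite field in which the members of the family are hyperplanes.
-/

set_option autoImplicit false
set_option linter.unusedSectionVars false
set_option linter.style.haveILetI false

namespace CfsgLib.AxialDesign

open Finset

/-- Hyperplanes with transvections. -/
structure TS (V : Type*) [AddCommGroup V] [Finite V] where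
  H : Finset (AddSubgroup V)
  t : ℕ
  s : ℕ
  l : ℕ
  two_le_t : 2 ≤ t
  t_lt_s : t < s
  card_V : Nat.card V = s * t
  card_mem : ∀ X ∈ H, Nat.card X = s
  card_through : ∀ v : V, v ≠ 0 → Set.ncard {X ∈ (H : Set (AddSubgroup V)) | v ∈ X} = l
  one_le_l : 1 ≤ l
  l_lt : l < H.card
  sup : ∀ X ∈ H, ∀ Y ∈ H, X ≠ Y → ∀ v : V, ∃ a ∈ X, ∃ b ∈ Y, v = a + b
  Φ : AddSubgroup V → AddSubgroup (V →+ V)
  ker : ∀ X ∈ H, ∀ f ∈ Φ X, ∀ v ∈ X, f v = 0
  range : ∀ X ∈ H, ∀ f ∈ Φ X, ∀ v, f v ∈ X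
  ker_le : ∀ X ∈ H, ∀ f ∈ Φ X, f ≠ 0 → ∀ v, f v = 0 → v ∈ X
  surj : ∀ X ∈ H, ∀ v, v ∉ X → ∀ y ∈ X, ∃ f ∈ Φ X, f v = y
  perm : ∀ X ∈ H, ∀ f ∈ Φ X, ∀ Z ∈ H, Z.map (AddMonoidHom.id V + f) ∈ H
  invariant : ∀ X ∈ H, ∀ f ∈ Φ X,
    l ≤ Set.ncard {Z ∈ (H : Set (AddSubgroup V)) | Z.map (AddMonoidHom.id V + f) = Z}

namespace TS

variable {V : Type*} [AddCommGroup V] [Finite V] (A : TS V)

/-- The members through a vector. -/
def star (v : V) : Set (AddSubgroup V) := {X ∈ (A.H : Set (AddSubgroup V)) | v ∈ X}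

/-- The class of a vector. -/
def cls (v : V) : AddSubgroup V := sInf (A.star v)

theorem finite_star (v : V) : (A.star v).Finite := A.H.finite_toSet.subset fun _ h => h.1

theorem mem_cls_self (v : V) : v ∈ A.cls v := AddSubgroup.mem_sInf.2 fun _ h => h.2

theorem mem_cls {v w : V} : w ∈ A.cls v ↔ ∀ X ∈ A.H, v ∈ X → w ∈ X :=
  ⟨fun h X hX hv => AddSubgroup.mem_sInf.1 h X ⟨hX, hv⟩,
    fun h => AddSubgroup.mem_sInf.2 fun X hX => h X hX.1 hX.2⟩

theorem cls_le {v : V} {X : AddSubgroup V} (hX : X ∈ A.H) (hv : v ∈ X) : A.cls v ≤ X :=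
  fun _ hw => A.mem_cls.1 hw X hX hv

theorem exists_mem {v : V} (hv : v ≠ 0) : ∃ X ∈ A.H, v ∈ X := by
  obtain ⟨X, hX⟩ := Set.nonempty_of_ncard_ne_zero (s := A.star v)
    (by have := A.one_le_l; rw [star, A.card_through v hv]; omega)
  exact ⟨X, hX.1, hX.2⟩

theorem exists_notMem {v : V} (hv : v ≠ 0) : ∃ X ∈ A.H, v ∉ X := by
  by_contra hc
  push Not at hc
  have h := A.card_through v hv
  rw [show {X ∈ (A.H : Set (AddSubgroup V)) | v ∈ X} = (A.H : Set (AddSubgroup V)) from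
    Set.ext fun X => ⟨fun h => h.1, fun h => ⟨h, hc X h⟩⟩, Set.ncard_coe_finset] at h
  exact A.l_lt.ne' h

theorem cls_zero {X : AddSubgroup V} {v : V} (hX : X ∈ A.H) (hv : v ∉ X) {w : V}
    (hw : w ∈ A.cls v) (hwX : w ∈ X) : w = 0 := by
  by_contra hw0
  have hv0 : v ≠ 0 := fun e => hv (e ▸ X.zero_mem)
  have hsub : A.star v ⊆ A.star w := fun Y hY => ⟨hY.1, A.cls_le hY.1 hY.2 hw⟩
  have he := Set.eq_of_subset_of_ncard_le hsub
    (le_of_eq ((A.card_through w hw0).trans (A.card_through v hv0).symm)) (A.finite_star w)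
  have hXv : X ∈ A.star v := by rw [he]; exact ⟨hX, hwX⟩
  exact hv hXv.2

theorem cls_eq {v w : V} (hw : w ∈ A.cls v) (hw0 : w ≠ 0) : A.cls w = A.cls v := by
  refine le_antisymm (fun u hu => A.mem_cls.2 fun X hX hv => A.cls_le hX (A.cls_le hX hv hw) hu)
    (fun u hu => A.mem_cls.2 fun X hX hwX => ?_)
  by_contra huX
  exact hw0 (A.cls_zero hX (fun hv => huX (A.cls_le hX hv hu)) hw hwX)

theorem disjoint_cls {v w u : V} (hne : A.cls v ≠ A.cls w) (hv : u ∈ A.cls v) (hw : u ∈ A.cls w) :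
    u = 0 := by
  by_contra h
  exact hne ((A.cls_eq hv h).symm.trans (A.cls_eq hw h))

theorem card_cls_le {v : V} (hv : v ≠ 0) : Nat.card (A.cls v) ≤ A.t := by
  obtain ⟨X, hX, hvX⟩ := A.exists_notMem hv
  have hidx : X.index = A.t := by
    have h := X.card_mul_index
    rw [A.card_mem X hX, A.card_V] at h
    exact Nat.eq_of_mul_eq_mul_left (by have := A.t_lt_s; omega) h
  rw [← hidx, AddSubgroup.index]
  refine Nat.card_le_card_of_injective (fun w : A.cls v => (QuotientAddGroup.mk (w : V) : V ⧸ X))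
    fun a b e => ?_
  rw [QuotientAddGroup.eq] at e
  refine Subtype.ext ?_
  have := A.cls_zero hX hvX (add_mem (neg_mem a.2) b.2) e
  exact neg_add_eq_zero.1 this

theorem range_le_cls {X : AddSubgroup V} (hX : X ∈ A.H) {f : V →+ V} (hf : f ∈ A.Φ X) (v : V)
    (hv : f v ≠ 0) (w : V) : f w ∈ A.cls (f v) := by
  set I := {Z ∈ (A.H : Set (AddSubgroup V)) | Z.map (AddMonoidHom.id V + f) = Z}
  have hI : ∀ Z ∈ I, ∀ u, f u ∈ Z := by
    rintro Z ⟨hZ, hinv⟩ u
    by_cases hZX : Z = X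
    · exact hZX ▸ A.range X hX f hf u
    obtain ⟨a, ha, b, hb, rfl⟩ := A.sup X hX Z hZ (Ne.symm hZX) u
    rw [map_add, A.ker X hX f hf a ha, zero_add]
    have : b + f b ∈ Z := hinv ▸ AddSubgroup.mem_map.2 ⟨b, hb, rfl⟩
    simpa using add_mem (neg_mem hb) this
  have he : I = A.star (f v) := Set.eq_of_subset_of_ncard_le (fun Z hZ => ⟨hZ.1, hI Z hZ v⟩)
    ((le_of_eq (A.card_through _ hv)).trans (A.invariant X hX f hf)) (A.finite_star _)
  exact A.mem_cls.2 fun Z hZ hvZ => hI Z (by rw [he]; exact ⟨hZ, hvZ⟩) w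

theorem exists_notMem_pt {X : AddSubgroup V} (hX : X ∈ A.H) : ∃ x, x ∉ X := by
  by_contra hc
  push Not at hc
  have h := A.card_mem X hX
  rw [show X = ⊤ from eq_top_iff.2 fun v _ => hc v, AddSubgroup.card_top, A.card_V] at h
  have h1 := A.two_le_t
  have h2 := A.t_lt_s
  have : A.s * 1 < A.s * A.t := Nat.mul_lt_mul_of_pos_left (by omega) (by omega)
  omega

theorem card_cls {v : V} (hv : v ≠ 0) : Nat.card (A.cls v) = A.t := by
  refine le_antisymm (A.card_cls_le hv) ?_
  obtain ⟨X, hX, hvX⟩ := A.exists_mem hv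
  obtain ⟨x, hx⟩ := A.exists_notMem_pt hX
  obtain ⟨f, hf, hfx⟩ := A.surj X hX x hx v hvX
  have hidx : X.index = A.t := by
    have h := X.card_mul_index
    rw [A.card_mem X hX, A.card_V] at h
    exact Nat.eq_of_mul_eq_mul_left (by have := A.t_lt_s; omega) h
  rw [← hidx, AddSubgroup.index]
  have hmem : ∀ u, f u ∈ A.cls v := fun u => by
    have := A.range_le_cls hX hf x (hfx ▸ hv) u
    rwa [hfx] at this
  refine Nat.card_le_card_of_injective (fun q : V ⧸ X => (⟨f q.out, hmem _⟩ : A.cls v)) fun a b e => ?_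
  rw [← QuotientAddGroup.out_eq' a, ← QuotientAddGroup.out_eq' b, QuotientAddGroup.eq]
  refine A.ker_le X hX f hf (fun h => hv (by rw [← hfx, h]; rfl)) _ ?_
  rw [map_add, map_neg, show f a.out = f b.out from congrArg Subtype.val e, neg_add_cancel]

theorem map_cls {X : AddSubgroup V} (hX : X ∈ A.H) {f : V →+ V} (hf : f ∈ A.Φ X) {v w : V}
    (hw : w ∈ A.cls v) : w + f w ∈ A.cls (v + f v) := by
  classical
  set e := AddMonoidHom.id V + f with he
  have hinj : Function.Injective e := by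
    refine (injective_iff_map_eq_zero _).2 fun u hu => ?_
    have hu' : u + f u = 0 := hu
    have huX : u ∈ X := by
      rw [eq_neg_of_add_eq_zero_left hu']
      exact neg_mem (A.range X hX f hf u)
    simpa [A.ker X hX f hf u huX] using hu'
  refine A.mem_cls.2 fun Z hZ hvZ => ?_
  obtain ⟨Z', hZ', rfl⟩ : ∃ Z' ∈ A.H, Z'.map e = Z := by
    obtain ⟨Y, hY, hY'⟩ := Finset.surj_on_of_inj_on_of_card_le (fun Y (_ : Y ∈ A.H) => Y.map e)
      (fun Y hY => A.perm X hX f hf Y hY)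
      (fun Y Y' _ _ h => AddSubgroup.map_injective hinj h) le_rfl Z hZ
    exact ⟨Y, hY, hY'.symm⟩
  obtain ⟨v', hv', hev⟩ := AddSubgroup.mem_map.1 hvZ
  have : v' = v := hinj hev
  exact AddSubgroup.mem_map.2 ⟨w, A.cls_le hZ' (this ▸ hv') hw, rfl⟩

/-- The kernel of the family: the endomorphisms fixing every class. -/
def kernel : Subring (AddMonoid.End V) where
  carrier := {f | ∀ v, f v ∈ A.cls v}
  mul_mem' := by
    intro f g hf hg v
    exact A.mem_cls.2 fun X hX hv => A.cls_le hX (A.cls_le hX hv (hg v)) (hf (g v))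
  one_mem' := fun v => A.mem_cls_self v
  add_mem' := fun hf hg v => add_mem (hf v) (hg v)
  zero_mem' := fun v => (A.cls v).zero_mem
  neg_mem' := fun hf v => neg_mem (hf v)

theorem mem_kernel {f : AddMonoid.End V} : f ∈ A.kernel ↔ ∀ v, f v ∈ A.cls v := Iff.rfl

theorem exists_nonzero (A : TS V) : ∃ v : V, v ≠ 0 := by
  have : 1 < Nat.card V := by
    rw [A.card_V]
    have := A.two_le_t
    have := A.t_lt_s
    nlinarith
  obtain ⟨v, hv⟩ := (Finite.one_lt_card_iff_nontrivial.1 this).exists_pair_ne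
  by_cases h : v = 0
  · obtain ⟨w, hw⟩ := hv
    exact ⟨w, fun e => hw (h.trans e.symm)⟩
  · exact ⟨v, h⟩

theorem exists_other {v : V} (hv : v ≠ 0) : ∃ w, w ≠ 0 ∧ A.cls w ≠ A.cls v := by
  obtain ⟨X, hX, hvX⟩ := A.exists_notMem hv
  have hs : 1 < Nat.card X := by rw [A.card_mem X hX]; have := A.two_le_t; have := A.t_lt_s; omega
  have : Nontrivial X := Finite.one_lt_card_iff_nontrivial.1 hs
  obtain ⟨w, hw⟩ := exists_ne (0 : X)
  exact ⟨w, fun e => hw (Subtype.ext e), fun e => hw (Subtype.ext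
    (A.cls_zero hX hvX (e ▸ A.mem_cls_self (w : V)) w.2))⟩

theorem kernel_eq_zero {f : AddMonoid.End V} (hf : f ∈ A.kernel) {v : V} (hv : v ≠ 0) (h : f v = 0) :
    f = 0 := by
  have key : ∀ v w : V, v ≠ 0 → A.cls w ≠ A.cls v → f v = 0 → f w = 0 := by
    intro v w hv0 hne hfv
    have h1 := hf (v + w)
    rw [map_add, hfv, zero_add] at h1
    refine A.disjoint_cls (v := w) (w := v + w) (fun e => hne ?_) (hf w) h1
    have hvw : v ∈ A.cls w := by
      have := sub_mem (e ▸ A.mem_cls_self (v + w)) (A.mem_cls_self w)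
      simpa using this
    exact (A.cls_eq hvw hv0).symm
  refine AddMonoidHom.ext fun w => ?_
  show f w = 0
  by_cases hw : w = 0
  · rw [hw, map_zero]
  by_cases hne : A.cls w = A.cls v
  · obtain ⟨u, hu, hu'⟩ := A.exists_other hv
    exact key u w hu (by rw [hne]; exact hu'.symm) (key v u hv hu' h)
  · exact key v w hv hne h

theorem cls_mono {v w : V} (h : w ∈ A.cls v) : A.cls w ≤ A.cls v := fun _ hu =>
  A.mem_cls.2 fun _ hX hv => A.cls_le hX (A.cls_le hX hv h) hu

theorem exists_scalar {X : AddSubgroup V} (hX : X ∈ A.H) {x₀ : V} (hx₀ : x₀ ∉ X) {u : V}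
    (hu : u ∈ A.cls x₀) : ∃ f ∈ A.kernel, f x₀ = u := by
  classical
  have hx0 : x₀ ≠ 0 := fun e => hx₀ (e ▸ X.zero_mem)
  let ev : A.Φ X →+ X := AddMonoidHom.mk' (fun f => ⟨(f : V →+ V) x₀, A.range X hX f f.2 x₀⟩)
    fun a b => rfl
  have hev : Function.Bijective ev := by
    refine ⟨(injective_iff_map_eq_zero _).2 fun f hf => ?_, fun y => ?_⟩
    · by_contra h
      exact hx₀ (A.ker_le X hX f f.2 (fun e => h (Subtype.ext e)) x₀ (congrArg Subtype.val hf))
    · obtain ⟨f, hf, hfy⟩ := A.surj X hX x₀ hx₀ y y.2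
      exact ⟨⟨f, hf⟩, Subtype.ext hfy⟩
  let Ψ : X →+ (V →+ V) := (A.Φ X).subtype.comp (AddEquiv.ofBijective ev hev).symm.toAddMonoidHom
  have hΨmem : ∀ y, Ψ y ∈ A.Φ X := fun y => ((AddEquiv.ofBijective ev hev).symm y).2
  have hΨx : ∀ y, Ψ y x₀ = y := fun y =>
    congrArg Subtype.val ((AddEquiv.ofBijective ev hev).apply_symm_apply y)
  have hΨcls : ∀ (y : X) (w : V), Ψ y w ∈ A.cls (y : V) := by
    intro y w
    by_cases hy : y = 0
    · rw [hy, map_zero]; exact zero_mem _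
    · have := A.range_le_cls hX (hΨmem y) x₀ (by rw [hΨx]; exact fun e => hy (Subtype.ext e)) w
      rwa [hΨx] at this
  have hΨinj : ∀ y : X, y ≠ 0 → ∀ w ∈ A.cls x₀, Ψ y w = 0 → w = 0 := fun y hy w hw h =>
    A.cls_zero hX hx₀ hw (A.ker_le X hX _ (hΨmem y) (fun e => hy (Subtype.ext (by
      rw [← hΨx y, e]; rfl))) w h)
  let img : X → V → X := fun y w => ⟨Ψ y w, A.range X hX _ (hΨmem y) w⟩
  have hex : ∀ y : X, y ≠ 0 → ∀ w, ∃ z ∈ A.cls x₀, Ψ y z = Ψ (img y w) u := by
    intro y hy w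
    have hy0 : (y : V) ≠ 0 := fun e => hy (Subtype.ext e)
    let e : A.cls x₀ → A.cls (y : V) := fun z => ⟨Ψ y z, hΨcls y z⟩
    have he : Function.Bijective e := by
      refine (Nat.bijective_iff_injective_and_card e).2 ⟨fun a b h => ?_, by rw [A.card_cls hx0, A.card_cls hy0]⟩
      refine Subtype.ext (sub_eq_zero.1 (hΨinj y hy _ (sub_mem a.2 b.2) ?_))
      rw [map_sub, show Ψ y a = Ψ y b from congrArg Subtype.val h, sub_self]
    obtain ⟨z, hz⟩ := he.2 ⟨Ψ (img y w) u, A.cls_mono (hΨcls y w) (hΨcls (img y w) u)⟩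
    exact ⟨z, z.2, congrArg Subtype.val hz⟩
  have hstep : ∀ y m : X, y ≠ 0 → m ≠ 0 → A.cls (y : V) ≠ A.cls (m : V) → ∀ w z z',
      z ∈ A.cls x₀ → Ψ y z = Ψ (img y w) u → z' ∈ A.cls x₀ → Ψ m z' = Ψ (img m w) u → z = z' := by
    intro y m hy hm hne w z z' hz hyz hz' hmz
    have hym : y + m ≠ 0 := fun e => hne (by
      have : (y : V) = -(m : V) := eq_neg_of_add_eq_zero_left (congrArg Subtype.val e)
      have hmem : (y : V) ∈ A.cls (m : V) := this ▸ neg_mem (A.mem_cls_self _)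
      exact A.cls_eq hmem fun e' => hy (Subtype.ext e'))
    obtain ⟨z'', hz'', h''⟩ := hex (y + m) hym w
    have himg : img (y + m) w = img y w + img m w := Subtype.ext (by simp [img])
    rw [himg, map_add, map_add, AddMonoidHom.add_apply, AddMonoidHom.add_apply, ← hyz, ← hmz] at h''
    have h : Ψ y (z'' - z) = Ψ m (z' - z'') := by
      rw [map_sub, map_sub, sub_eq_sub_iff_add_eq_add, add_comm (Ψ m z') (Ψ y z)]
      exact h''
    have h0 : Ψ y (z'' - z) = 0 := A.disjoint_cls hne (hΨcls y _) (h ▸ hΨcls m _)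
    have h1 := sub_eq_zero.1 (hΨinj y hy _ (sub_mem hz'' hz) h0)
    have h2 := sub_eq_zero.1 (hΨinj m hm _ (sub_mem hz' hz'') (by rw [← h, h0]))
    rw [← h1, h2]
  obtain ⟨m₀, hm₀, m₁, hm₁, hmne⟩ : ∃ m₀ : X, m₀ ≠ 0 ∧ ∃ m₁ : X, m₁ ≠ 0 ∧ A.cls (m₁ : V) ≠ A.cls (m₀ : V) := by
    have hs : 1 < Nat.card X := by rw [A.card_mem X hX]; have := A.two_le_t; have := A.t_lt_s; omega
    have : Nontrivial X := Finite.one_lt_card_iff_nontrivial.1 hs
    obtain ⟨m₀, hm₀⟩ := exists_ne (0 : X)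
    refine ⟨m₀, hm₀, ?_⟩
    by_contra hc
    push Not at hc
    have h2 := A.card_cls (v := (m₀ : V)) fun e => hm₀ (Subtype.ext e)
    have h3 : Nat.card X ≤ Nat.card (A.cls (m₀ : V)) := AddSubgroup.card_le_of_le fun v hv => by
      by_cases h : (⟨v, hv⟩ : X) = 0
      · rw [show v = 0 from congrArg Subtype.val h]; exact zero_mem _
      · rw [← hc _ h]; exact A.mem_cls_self v
    rw [A.card_mem X hX, h2] at h3
    exact absurd A.t_lt_s (by omega)
  choose μ hμ hμeq using fun w => hex m₀ hm₀ w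
  have hμall : ∀ (y : X) (w : V), Ψ y (μ w) = Ψ (img y w) u := by
    intro y w
    by_cases hy : y = 0
    · subst hy
      rw [map_zero, show img 0 w = 0 from Subtype.ext (by simp [img]), map_zero]
      rfl
    obtain ⟨z, hz, hzy⟩ := hex y hy w
    by_cases hne : A.cls (y : V) = A.cls (m₀ : V)
    · obtain ⟨z₁, hz₁, hz₁eq⟩ := hex m₁ hm₁ w
      rw [← hzy, ← hstep m₁ m₀ hm₁ hm₀ hmne w z₁ (μ w) hz₁ hz₁eq (hμ w) (hμeq w),
        hstep m₁ y hm₁ hy (hne ▸ hmne) w z₁ z hz₁ hz₁eq hz hzy]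
    · rw [← hzy, hstep y m₀ hy hm₀ hne w z (μ w) hz hzy (hμ w) (hμeq w)]
  have hμadd : ∀ a b, μ (a + b) = μ a + μ b := fun a b => sub_eq_zero.1
    (hΨinj m₀ hm₀ _ (sub_mem (hμ _) (add_mem (hμ a) (hμ b))) (by
      rw [map_sub, map_add, hμeq, hμeq, hμeq, show img m₀ (a + b) = img m₀ a + img m₀ b from
        Subtype.ext (by simp [img]), map_add, AddMonoidHom.add_apply, sub_self]))
  let sumHom : X × A.cls x₀ →+ V := X.subtype.coprod (A.cls x₀).subtype
  have hsum : Function.Bijective sumHom := by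
    refine (Nat.bijective_iff_injective_and_card sumHom).2 ⟨(injective_iff_map_eq_zero _).2 ?_, ?_⟩
    · rintro ⟨a, w⟩ h
      have h' : (a : V) + (w : V) = 0 := h
      have hw : (w : V) ∈ X := by rw [eq_neg_of_add_eq_zero_right h']; exact neg_mem a.2
      have hw0 := A.cls_zero hX hx₀ w.2 hw
      rw [hw0, add_zero] at h'
      exact Prod.ext (Subtype.ext h') (Subtype.ext hw0)
    · rw [Nat.card_prod, A.card_mem X hX, A.card_cls hx0, A.card_V]
  let dec := (AddEquiv.ofBijective sumHom hsum).symm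
  have hdec : ∀ v, ((dec v).1 : V) + ((dec v).2 : V) = v := fun v =>
    (AddEquiv.ofBijective sumHom hsum).apply_symm_apply v
  let f : AddMonoid.End V := AddMonoidHom.mk'
    (fun v => Ψ (dec v).1 u + μ ((dec v).2 : V)) fun a b => by
      rw [map_add, Prod.fst_add, Prod.snd_add, map_add, AddMonoidHom.add_apply, AddSubgroup.coe_add, hμadd]
      abel
  have hμ0 : μ 0 = 0 := by
    have := hμadd 0 0
    rwa [add_zero, left_eq_add] at this
  refine ⟨f, fun v => ?_, ?_⟩
  · show Ψ (dec v).1 u + μ ((dec v).2 : V) ∈ A.cls v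
    have hv := hdec v
    generalize dec v = p at hv ⊢
    rw [← hv]
    obtain ⟨a, w⟩ := p
    dsimp only
    by_cases hw : (w : V) = 0
    · rw [hw, hμ0, add_zero, add_zero]
      exact hΨcls a u
    have hwX : (w : V) ∉ X := fun h => hw (A.cls_zero hX hx₀ w.2 h)
    obtain ⟨g, hg, hga⟩ := A.surj X hX _ hwX a a.2
    set y : X := ⟨g x₀, A.range X hX g hg x₀⟩
    have hgy : g = Ψ y := by
      have : ev ⟨g, hg⟩ = y := Subtype.ext rfl
      show g = ((AddEquiv.ofBijective ev hev).symm y : A.Φ X).1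
      rw [← this]
      exact (congrArg Subtype.val ((AddEquiv.ofBijective ev hev).symm_apply_apply ⟨g, hg⟩)).symm
    have himg : img y (w : V) = a := Subtype.ext (show Ψ y (w : V) = a by rw [← hgy]; exact hga)
    have hmem : μ (w : V) ∈ A.cls (w : V) := by rw [A.cls_eq w.2 hw]; exact hμ _
    have h2 := A.map_cls hX hg hmem
    rw [hga, hgy, hμall, himg, add_comm (w : V), add_comm (μ (w : V))] at h2
    exact h2
  · show Ψ (dec x₀).1 u + μ ((dec x₀).2 : V) = u
    rw [show dec x₀ = (0, ⟨x₀, A.mem_cls_self x₀⟩) from (AddEquiv.symm_apply_eq _).2 (by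
      show x₀ = ((0 : X) : V) + x₀
      simp)]
    rw [map_zero, AddMonoidHom.zero_apply, zero_add]
    refine sub_eq_zero.1 (hΨinj m₀ hm₀ _ (sub_mem (hμ _) hu) ?_)
    rw [map_sub, hμeq, show img m₀ x₀ = m₀ from Subtype.ext (hΨx m₀), sub_self]

theorem card_kernel : Nat.card A.kernel = A.t := by
  obtain ⟨v, hv⟩ := A.exists_nonzero
  obtain ⟨X, hX, hvX⟩ := A.exists_notMem hv
  rw [← A.card_cls hv]
  refine Nat.card_congr (Equiv.ofBijective (fun f : A.kernel => (⟨(f : AddMonoid.End V) v, f.2 v⟩ : A.cls v)) ⟨fun f g h => ?_, fun u => ?_⟩)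
  · refine Subtype.ext (sub_eq_zero.1 (A.kernel_eq_zero (sub_mem f.2 g.2) hv ?_))
    show (f : AddMonoid.End V) v - (g : AddMonoid.End V) v = 0
    exact sub_eq_zero.2 (congrArg Subtype.val h)
  · obtain ⟨f, hf, hfu⟩ := A.exists_scalar hX hvX u.2
    exact ⟨⟨f, hf⟩, Subtype.ext hfu⟩

theorem isField : IsField A.kernel := by
  have hnt : Nontrivial A.kernel := by
    haveI : Finite A.kernel := Nat.finite_of_card_ne_zero (by rw [A.card_kernel]; have := A.two_le_t; omega)
    exact Finite.one_lt_card_iff_nontrivial.1 (by rw [A.card_kernel]; exact A.two_le_t)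
  haveI : Finite A.kernel := Nat.finite_of_card_ne_zero (by rw [A.card_kernel]; have := A.two_le_t; omega)
  haveI : NoZeroDivisors A.kernel := ⟨fun {a b} h => by
    by_cases hb : b = 0
    · exact Or.inr hb
    refine Or.inl (Subtype.ext ?_)
    obtain ⟨v, hv⟩ : ∃ v, (b : AddMonoid.End V) v ≠ 0 := by
      by_contra hc
      push Not at hc
      exact hb (Subtype.ext (AddMonoidHom.ext hc))
    exact A.kernel_eq_zero a.2 hv (DFunLike.congr_fun (congrArg Subtype.val h) v)⟩
  haveI : IsDomain A.kernel := NoZeroDivisors.to_isDomain _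
  exact Finite.isDomain_to_isField _

noncomputable instance : Field A.kernel := A.isField.toField

theorem smul_def (f : A.kernel) (v : V) : f • v = (f : AddMonoid.End V) v := rfl

theorem mem_cls_iff {v w : V} (hv : v ≠ 0) : w ∈ A.cls v ↔ ∃ f : A.kernel, f • v = w := by
  refine ⟨fun h => ?_, fun ⟨f, hf⟩ => hf ▸ f.2 v⟩
  obtain ⟨X, hX, hvX⟩ := A.exists_notMem hv
  obtain ⟨f, hf, hfw⟩ := A.exists_scalar hX hvX h
  exact ⟨⟨f, hf⟩, hfw⟩

/-- A member of the family as a subspace. -/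
def sub {X : AddSubgroup V} (hX : X ∈ A.H) : Submodule A.kernel V where
  carrier := X
  add_mem' := X.add_mem
  zero_mem' := X.zero_mem
  smul_mem' f v hv := A.cls_le hX hv (f.2 v)

theorem smul_mem {X : AddSubgroup V} (hX : X ∈ A.H) (a : A.kernel) {v : V} (hv : v ∈ X) : a • v ∈ X :=
  A.cls_le hX hv (a.2 v)

theorem split {X : AddSubgroup V} (hX : X ∈ A.H) {x₀ : V} (hx₀ : x₀ ∉ X) (v : V) :
    ∃ (a : A.kernel), v - a • x₀ ∈ X := by
  have hx0 : x₀ ≠ 0 := fun e => hx₀ (e ▸ X.zero_mem)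
  let q : A.kernel → V ⧸ X := fun a => QuotientAddGroup.mk (a • x₀)
  have hidx : X.index = A.t := by
    have h := X.card_mul_index
    rw [A.card_mem X hX, A.card_V] at h
    exact Nat.eq_of_mul_eq_mul_left (by have := A.t_lt_s; omega) h
  have hq : Function.Bijective q := by
    refine (Nat.bijective_iff_injective_and_card q).2 ⟨fun a b h => ?_, by
      rw [A.card_kernel, ← hidx]; rfl⟩
    rw [QuotientAddGroup.eq, ← neg_smul, ← add_smul] at h
    by_contra hne
    have h1 : -a + b ≠ 0 := fun e => hne (neg_add_eq_zero.1 e)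
    have h2 := A.smul_mem hX (-a + b)⁻¹ h
    rw [← mul_smul, inv_mul_cancel₀ h1, one_smul] at h2
    exact hx₀ h2
  obtain ⟨a, ha⟩ := hq.2 (QuotientAddGroup.mk v)
  refine ⟨a, ?_⟩
  rw [QuotientAddGroup.eq] at ha
  rwa [neg_add_eq_sub] at ha

/-- The transvections are linear. -/
theorem map_smul_trans {X : AddSubgroup V} (hX : X ∈ A.H) {f : V →+ V} (hf : f ∈ A.Φ X) (a : A.kernel)
    (v : V) : f (a • v) = a • f v := by
  have hff : ∀ v, f (f v) = 0 := fun v => A.ker X hX f hf _ (A.range X hX f hf v)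
  have hg : ∀ v, (v - f v) + f (v - f v) = v := fun v => by rw [map_sub, hff, sub_zero, sub_add_cancel]
  let a' : AddMonoid.End V := AddMonoidHom.mk'
    (fun v => a • (v - f v) + f (a • (v - f v))) fun x y => by
      simp only [map_add, map_sub, smul_add, smul_sub]
      abel
  have ha' : a' ∈ A.kernel := fun v => by
    have := A.map_cls hX hf (a.2 (v - f v))
    rwa [hg] at this
  have hm : ∃ m ∈ X, m ≠ 0 := by
    have hs : 1 < Nat.card X := by rw [A.card_mem X hX]; have := A.two_le_t; have := A.t_lt_s; omega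
    have : Nontrivial X := Finite.one_lt_card_iff_nontrivial.1 hs
    obtain ⟨m, hm⟩ := exists_ne (0 : X)
    exact ⟨m, m.2, fun e => hm (Subtype.ext e)⟩
  obtain ⟨m, hmX, hm0⟩ := hm
  have h0 := A.kernel_eq_zero (sub_mem ha' a.2) hm0 (by
    show a • (m - f m) + f (a • (m - f m)) - a • m = 0
    rw [A.ker X hX f hf m hmX, sub_zero, A.ker X hX f hf _ (A.smul_mem hX a hmX), add_zero, sub_self])
  have h1 : a • (v + f v - f (v + f v)) + f (a • (v + f v - f (v + f v))) - a • (v + f v) = 0 :=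
    DFunLike.congr_fun h0 (v + f v)
  rw [map_add f v, hff, add_zero, add_sub_cancel_right, smul_add] at h1
  exact add_left_cancel (sub_eq_zero.1 h1)

/-- A linear form with a given kernel. -/
theorem exists_form {X : AddSubgroup V} (hX : X ∈ A.H) {x₀ : V} (hx₀ : x₀ ∉ X) :
    ∃ α : V →ₗ[A.kernel] A.kernel, α x₀ = 1 ∧ ∀ v, α v = 0 ↔ v ∈ X := by
  choose a ha using A.split hX hx₀
  have huniq : ∀ v b, v - b • x₀ ∈ X → a v = b := fun v b hb => by
    by_contra hne
    have h := sub_mem hb (ha v)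
    rw [sub_sub_sub_cancel_left, ← sub_smul] at h
    have h1 : a v - b ≠ 0 := sub_ne_zero.2 hne
    have h2 := A.smul_mem hX (a v - b)⁻¹ h
    rw [← mul_smul, inv_mul_cancel₀ h1, one_smul] at h2
    exact hx₀ h2
  refine ⟨{ toFun := a, map_add' := fun v w => huniq _ _ ?_, map_smul' := fun c v => huniq _ _ ?_ },
    huniq _ _ (by simp), fun v => ⟨fun h => ?_, fun h => huniq _ _ (by simpa using h)⟩⟩
  · rw [add_smul, add_sub_add_comm]
    exact add_mem (ha v) (ha w)
  · rw [RingHom.id_apply, smul_eq_mul, mul_smul, ← smul_sub]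
    exact A.smul_mem hX c (ha v)
  · have h' : a v = 0 := h
    have := ha v
    rwa [h', zero_smul, sub_zero] at this

/-- A set of members closed under the transvections of its members is a star. -/
theorem exists_common {S : Set (AddSubgroup V)} (hS : S ⊆ A.H) (hcard : S.ncard = A.l)
    (hcl : ∀ X ∈ S, ∀ Z ∈ S, ∀ f ∈ A.Φ X, Z.map (AddMonoidHom.id V + f) ∈ S) :
    ∃ v : V, v ≠ 0 ∧ ∀ X ∈ A.H, X ∈ S ↔ v ∈ X := by
  classical
  suffices ∃ v : V, v ≠ 0 ∧ ∀ X ∈ S, v ∈ X by
    obtain ⟨v, hv, hall⟩ := this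
    refine ⟨v, hv, fun X hX => ⟨hall X, fun h => ?_⟩⟩
    rw [Set.eq_of_subset_of_ncard_le (fun Y hY => (⟨hS hY, hall Y hY⟩ : Y ∈ A.star v))
      (le_of_eq ((A.card_through v hv).trans hcard.symm)) (A.finite_star v)]
    exact ⟨hX, h⟩
  let good : Submodule A.kernel (Module.Dual A.kernel V) :=
    { carrier := {α | α = 0 ∨ ∃ X ∈ S, ∀ v, α v = 0 ↔ v ∈ X}
      zero_mem' := Or.inl rfl
      smul_mem' := by
        rintro c α h
        by_cases hc : c = 0
        · exact Or.inl (by rw [hc, zero_smul])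
        rcases h with rfl | ⟨X, hX, hα⟩
        · exact Or.inl (smul_zero c)
        · exact Or.inr ⟨X, hX, fun v => by simp [hc, hα]⟩
      add_mem' := by
        rintro α β (rfl | ⟨X, hX, hα⟩) hβ
        · rwa [zero_add]
        rcases hβ with rfl | ⟨Z, hZ, hβ⟩
        · rw [add_zero]; exact Or.inr ⟨X, hX, hα⟩
        obtain ⟨x₀, hx₀⟩ := A.exists_notMem_pt (hS hX)
        have hα0 : α x₀ ≠ 0 := fun e => hx₀ ((hα x₀).1 e)
        by_cases hXZ : X = Z
        · subst hXZ
          obtain ⟨c, hc⟩ : ∃ c, c = β x₀ / α x₀ := ⟨_, rfl⟩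
          have hβα : β = c • α := LinearMap.ext fun v => by
            obtain ⟨a, ha⟩ := A.split (hS hX) hx₀ v
            have h1 := (hα _).2 ha
            have h2 := (hβ _).2 ha
            rw [map_sub, map_smul, sub_eq_zero] at h1 h2
            rw [LinearMap.smul_apply, h1, h2, hc, smul_eq_mul, smul_eq_mul, smul_eq_mul]
            field_simp
          by_cases h1 : 1 + c = 0
          · left; rw [hβα, ← one_smul A.kernel α, smul_smul, mul_one, ← add_smul, h1, zero_smul]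
          · exact Or.inr ⟨X, hX, fun v => by
              rw [hβα, LinearMap.add_apply, LinearMap.smul_apply, smul_eq_mul, ← one_add_mul, mul_eq_zero,
                or_iff_right h1, hα]⟩
        obtain ⟨y₁, hy₁X, hy₁Z⟩ : ∃ y ∈ X, y ∉ Z := SetLike.not_le_iff_exists.1 fun hle => hXZ (by
          refine AddSubgroup.eq_of_le_of_card_ge hle ?_
          rw [A.card_mem X (hS hX), A.card_mem Z (hS hZ)])
        have hb1 : β y₁ ≠ 0 := fun e => hy₁Z ((hβ y₁).1 e)
        set y := (α x₀ / β y₁) • y₁ with hy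
        have hβy : β y = α x₀ := by rw [hy, map_smul, smul_eq_mul, div_mul_cancel₀ _ hb1]
        obtain ⟨f, hf, hfy⟩ := A.surj X (hS hX) x₀ hx₀ y (A.smul_mem (hS hX) _ hy₁X)
        have hfneg : -f ∈ A.Φ X := neg_mem hf
        have hlin : ∀ (a : A.kernel), f (a • x₀) = a • f x₀ := fun a => A.map_smul_trans (hS hX) hf a x₀
        refine Or.inr ⟨Z.map (AddMonoidHom.id V + -f), hcl X hX Z hZ _ hfneg, fun v => ?_⟩
        have hβf : β (f v) = α v := by
          obtain ⟨a, ha⟩ := A.split (hS hX) hx₀ v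
          have h1 := (hα _).2 ha
          have h2 := A.ker X (hS hX) f hf _ ha
          rw [map_sub, sub_eq_zero] at h1 h2
          rw [h1, h2, hlin, map_smul, map_smul, hfy, hβy]
        rw [LinearMap.add_apply, ← hβf, add_comm, ← map_add, hβ, AddSubgroup.mem_map]
        have hff : f (f v) = 0 := A.ker X (hS hX) f hf _ (A.range X (hS hX) f hf v)
        constructor
        · intro h
          refine ⟨v + f v, h, ?_⟩
          show v + f v + -(f (v + f v)) = v
          rw [map_add, hff, add_zero, add_neg_cancel_right]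
        · rintro ⟨z, hz, rfl⟩
          show z + -f z + f (z + -f z) ∈ Z
          rw [map_add, map_neg, A.ker X (hS hX) f hf _ (A.range X (hS hX) f hf z), neg_zero, add_zero,
            neg_add_cancel_right]
          exact hz }
  by_cases hgood : good = ⊤
  · exfalso
    have hall : (A.H : Set (AddSubgroup V)) ⊆ S := by
      intro X hX
      obtain ⟨x₀, hx₀⟩ := A.exists_notMem_pt hX
      obtain ⟨α, hα1, hα⟩ := A.exists_form hX hx₀
      have hm : α ∈ good := hgood ▸ Submodule.mem_top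
      rcases hm with h | ⟨Y, hY, hY'⟩
      · rw [h] at hα1
        exact (zero_ne_one hα1).elim
      · rwa [show X = Y from SetLike.ext fun v => (hα v).symm.trans (hY' v)]
    have h1 := Set.ncard_le_ncard hall (A.H.finite_toSet.subset hS)
    rw [Set.ncard_coe_finset, hcard] at h1
    exact absurd A.l_lt (by omega)
  obtain ⟨v, hv, hv0⟩ : ∃ v ∈ good.dualCoannihilator, v ≠ 0 := by
    refine Submodule.exists_mem_ne_zero_of_ne_bot fun h => hgood ?_
    rw [← Subspace.dualCoannihilator_dualAnnihilator_eq (W := good), h, Submodule.dualAnnihilator_bot]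
  refine ⟨v, hv0, fun X hX => ?_⟩
  obtain ⟨x₀, hx₀⟩ := A.exists_notMem_pt (hS hX)
  obtain ⟨α, -, hα⟩ := A.exists_form (hS hX) hx₀
  exact (hα v).1 ((Submodule.mem_dualCoannihilator v).1 hv α (Or.inr ⟨X, hX, hα⟩))

end TS

end CfsgLib.AxialDesign
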