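import Cfsg.Agent.Lib.AxialDesign.Coord
import Cfsg.Agent.Lib.Classical.SLBasic

/-!
# The group generated by the axial groups is a projective special linear group
-/

set_option autoImplicit false
set_option linter.unusedSectionVars false
set_option linter.style.haveILetI false

namespace CfsgLib.AxialDesign

open Finset MulAction Matrix
open scoped LinearAlgebra.Projectivization

variable {P B : Type*} [Fintype P] [Fintype B] [DecidableEq P] [DecidableEq B]

/-- The automorphisms of a design. -/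
def collin (D : SD P B) : Subgroup (Equiv.Perm P × Equiv.Perm B) where
  carrier := {p | ∀ x b, p.1 x ∈ D.pts (p.2 b) ↔ x ∈ D.pts b}
  one_mem' := fun _ _ => Iff.rfl
  mul_mem' := by
    intro p q hp hq x b
    show p.1 (q.1 x) ∈ D.pts (p.2 (q.2 b)) ↔ _
    rw [hp, hq]
  inv_mem' := by
    intro p hp x b
    rw [← hp]
    show p.1 (p.1.symm x) ∈ D.pts (p.2 (p.2.symm b)) ↔ _
    rw [Equiv.apply_symm_apply, Equiv.apply_symm_apply]

instance collinPoints (D : SD P B) : MulAction (collin D) P :=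
  MulAction.compHom P ((MonoidHom.fst _ _).comp (collin D).subtype)

instance collinBlocks (D : SD P B) : MulAction (collin D) B :=
  MulAction.compHom B ((MonoidHom.snd _ _).comp (collin D).subtype)

theorem collin_isAut (D : SD P B) : D.IsAut (collin D) := fun g x b => g.2 x b

variable {G : Type*} [Group G] [Finite G] [MulAction G P] [MulAction G B]

namespace Axial

variable {D : SD P B} (A : Axial G D)

open _root_.Classical in
/-- An automorphism with exactly the axis fixed comes from the axial group. -/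
theorem mem_T_of_axial (c : B) {π : Equiv.Perm P} {σ : Equiv.Perm B}
    (hinc : ∀ x b, π x ∈ D.pts (σ b) ↔ x ∈ D.pts b) (hfix : ∀ x ∈ D.pts c, π x = x)
    (hfree : ∀ x, x ∉ D.pts c → π x ≠ x) : ∃ g ∈ A.T c, ∀ x : P, g • x = π x := by
  haveI : Finite (collin D) := inferInstance
  let Γ : Subgroup (collin D) := fixingSubgroup (collin D) (D.pts c : Set P)
  letI : Fintype Γ := Fintype.ofFinite _
  letI : Fintype (A.T c) := Fintype.ofFinite _
  have hΓ : ∀ γ : collin D, γ ∈ Γ ↔ ∀ x ∈ D.pts c, γ • x = x := fun γ => mem_fixingSubgroup_iff _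
  have hone : ∀ γ : Γ, ∀ p p', p ∉ D.pts c → p' ∉ D.pts c → p ≠ p' → γ • p = p → γ • p' = p' → γ = 1 := by
    intro γ p p' hp hp' hne hgp hgp'
    have hall : ∀ x : P, (γ : collin D) • x = x :=
      (collin_isAut D).eq_one_of_two_fix ((hΓ _).1 γ.2) hp hp' hne hgp hgp'
    refine Subtype.ext (Subtype.ext (Prod.ext (Equiv.ext hall) (Equiv.ext fun b => ?_)))
    refine (collin_isAut D).smul_eq_of_fix_pts (g := (γ : collin D)) fun x _ => hall x
  let i : A.T c → Γ := fun g => ⟨⟨(toPerm (g : G), toPerm (g : G)), fun x b => A.aut g x b⟩,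
    (hΓ _).2 fun x hx => A.fix c g g.2 x hx⟩
  have hi : Function.Injective i := fun g g' h => Subtype.ext (inv_mul_eq_one.1 (A.faithful _ fun x => by
    rw [mul_smul, inv_smul_eq_iff]
    exact (congrArg (fun γ : Γ => γ • x) h).symm))
  obtain ⟨x₀, hx₀⟩ := D.exists_notMem c
  have horb : ∀ y, y ∈ orbit Γ x₀ ↔ y ∉ D.pts c := by
    refine fun y => ⟨?_, fun hy => ?_⟩
    · rintro ⟨γ, rfl⟩ h
      have h2 : ((γ⁻¹ : Γ) : collin D) • γ • x₀ = γ • x₀ := (hΓ _).1 (γ⁻¹).2 _ h
      have h3 : x₀ = γ • x₀ := (inv_smul_smul γ x₀).symm.trans h2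
      exact hx₀ (h3 ▸ h)
    · obtain ⟨g, hg, rfl⟩ := A.exists_T_smul c hx₀ hy
      exact ⟨i ⟨g, hg⟩, rfl⟩
  have hsum := CfsgLib.OstromWagner.sum_fixed_orbit Γ x₀
  set f : Γ → ℕ := fun γ => {y : P | y ∈ orbit Γ x₀ ∧ γ • y = y}.ncard with hf
  change ∑ γ : Γ, f γ = Nat.card Γ at hsum
  obtain ⟨d, hd⟩ := Fintype.exists_ne_of_one_lt_card (by rw [D.card_eq]; have := D.le_card; omega) c
  have hN : Nat.card (A.T c) + D.k = Fintype.card P := (A.regular (Ne.symm hd)).2
  have hf1 : f 1 = Nat.card (A.T c) := by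
    rw [hf]
    show {y : P | y ∈ orbit Γ x₀ ∧ (1 : Γ) • y = y}.ncard = _
    rw [show {y : P | y ∈ orbit Γ x₀ ∧ (1 : Γ) • y = y} = ((D.pts c)ᶜ : Finset P) by ext y; simp [horb],
      Set.ncard_coe_finset, card_compl, D.card_pts]
    omega
  have hle : ∀ γ ∈ (univ : Finset Γ).erase 1, f γ ≤ 1 := by
    intro γ hγ
    refine Set.ncard_le_one_iff_subsingleton.2 fun p hp p' hp' => ?_
    by_contra hne
    exact ne_of_mem_erase hγ (hone γ p p' ((horb p).1 hp.1) ((horb p').1 hp'.1) hne hp.2 hp'.2)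
  have hzero : ∀ γ : Γ, f γ = 0 ↔ ∀ y, y ∉ D.pts c → γ • y ≠ y := by
    intro γ
    rw [hf]
    show {y : P | y ∈ orbit Γ x₀ ∧ γ • y = y}.ncard = 0 ↔ _
    rw [Set.ncard_eq_zero, Set.eq_empty_iff_forall_notMem]
    simp [horb]
  set Z := ((univ : Finset Γ).erase 1).filter fun γ => f γ = 0 with hZ
  have hsum' : ∑ γ ∈ (univ : Finset Γ).erase 1, f γ + #Z = #((univ : Finset Γ).erase 1) := by
    rw [card_eq_sum_ones ((univ : Finset Γ).erase 1), hZ, card_filter, ← sum_add_distrib]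
    refine sum_congr rfl fun γ hγ => ?_
    have := hle γ hγ
    split_ifs <;> omega
  rw [← add_sum_erase _ _ (mem_univ (1 : Γ)), hf1] at hsum
  have hZcard : #Z + 1 = Nat.card (A.T c) := by
    rw [card_erase_of_mem (mem_univ _), card_univ, ← Nat.card_eq_fintype_card] at hsum'
    have : 0 < Nat.card Γ := Nat.card_pos
    omega
  have hsub : ((univ : Finset (A.T c)).erase 1).image i ⊆ Z := by
    intro γ hγ
    obtain ⟨g, hg, rfl⟩ := mem_image.1 hγ
    have hg1 : (g : G) ≠ 1 := fun e => ne_of_mem_erase hg (Subtype.ext e)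
    refine mem_filter.2 ⟨mem_erase.2 ⟨fun e => ?_, mem_univ _⟩, (hzero _).2 fun y hy => A.free c g g.2 hg1 y hy⟩
    exact A.free c g g.2 hg1 x₀ hx₀ (congrArg (fun γ : Γ => γ • x₀) e |>.trans (one_smul Γ x₀))
  have heq : ((univ : Finset (A.T c)).erase 1).image i = Z := by
    refine eq_of_subset_of_card_le hsub ?_
    rw [card_image_of_injective _ hi, card_erase_of_mem (mem_univ _), card_univ, ← Nat.card_eq_fintype_card]
    omega
  let γ₀ : Γ := ⟨⟨(π, σ), hinc⟩, (hΓ _).2 hfix⟩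
  have hmem : γ₀ ∈ Z := by
    refine mem_filter.2 ⟨mem_erase.2 ⟨fun e => ?_, mem_univ _⟩, (hzero _).2 fun y hy => hfree y hy⟩
    exact hfree x₀ hx₀ (congrArg (fun γ : Γ => γ • x₀) e |>.trans (one_smul Γ x₀))
  rw [← heq] at hmem
  obtain ⟨g, -, hg⟩ := mem_image.1 hmem
  exact ⟨g, g.2, fun x => congrArg (fun γ : Γ => γ • x) hg⟩

end Axial

section Transvection

variable {F : Type*} [Field F] {ι : Type*} [Fintype ι] [DecidableEq ι]

/-- The transvection with axis the kernel of a form and given centre. -/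
def tv (w u : ι → F) (h : w ⬝ᵥ u = 0) : SpecialLinearGroup ι F :=
  ⟨1 + vecMulVec u w, by
    rw [vecMulVec_eq Unit, det_one_add_replicateCol_mul_replicateRow, h, add_zero]⟩

theorem tv_smul (w u : ι → F) (h : w ⬝ᵥ u = 0) (v : ι → F) : tv w u h • v = v + (w ⬝ᵥ v) • u := by
  show (1 + vecMulVec u w) *ᵥ v = _
  rw [add_mulVec, one_mulVec, vecMulVec_mulVec, op_smul_eq_smul]

theorem transvection_eq_tv {i j : ι} (hij : i ≠ j) (a : F) :
    SpecialLinearGroup.transvection hij a = tv (Pi.single j 1) (Pi.single i a)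
      (by rw [single_dotProduct, Pi.single_eq_of_ne hij.symm, mul_zero]) := by
  refine Subtype.ext ?_
  show (1 : Matrix ι ι F) + single i j a = 1 + vecMulVec (Pi.single i a) (Pi.single j 1)
  congr 1
  ext x y
  simp only [vecMulVec_apply, single_apply, Pi.single_apply]
  by_cases h1 : x = i <;> by_cases h2 : y = j <;> simp [h1, h2, Ne.symm, eq_comm (a := i), eq_comm (a := j)]

end Transvection

open _root_.Classical in
theorem Axial.psl_normal {D : SD P B} (A : Axial G D) (hD : D.Coordinates) :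
    ∃ (m : ℕ) (F : Type) (_ : Field F) (_ : Fintype F), 2 ≤ m ∧
      Nat.card P = (Fintype.card F ^ (m + 1) - 1) / (Fintype.card F - 1) ∧
      ∃ N : Subgroup G, N.Normal ∧ Nonempty (N ≃* ProjectiveSpecialLinearGroup (Fin (m + 1)) F) ∧
        Subgroup.centralizer (N : Set G) = ⊥ := by
  obtain ⟨F, iF, iFF, m, φ, hm, hφ, hcard, hblocks⟩ := hD
  have hq : 2 ≤ Fintype.card F := Fintype.one_lt_card
  refine ⟨m, F, iF, iFF, hm, ?_, ?_⟩
  · rw [← hcard, Nat.add_sub_cancel, Nat.mul_div_cancel _ (by omega), Nat.card_eq_fintype_card]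
  choose w hw hpts using hblocks
  have hinj : ∀ x y (a : F), a • φ y = φ x → x = y := by
    intro x y a h
    have ha : a ≠ 0 := fun e => hφ x (by rw [← h, e, zero_smul])
    refine D.thru_injective fun b => ?_
    rw [hpts, hpts, ← h, dotProduct_smul, smul_eq_mul, mul_eq_zero, or_iff_right ha]
  have hV : Nat.card (Fin (m + 1) → F) = Fintype.card F ^ (m + 1) := by simp
  have hproj : Nat.card (ℙ F (Fin (m + 1) → F)) = Fintype.card P := by
    have h := Projectivization.card' F (Fin (m + 1) → F)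
    rw [hV, Nat.card_eq_fintype_card (α := F), ← hcard] at h
    exact (Nat.eq_of_mul_eq_mul_right (by omega : 0 < Fintype.card F - 1) (Nat.add_right_cancel h)).symm
  let e₀ : P → ℙ F (Fin (m + 1) → F) := fun x => Projectivization.mk F (φ x) (hφ x)
  have he₀ : Function.Bijective e₀ := by
    refine (Nat.bijective_iff_injective_and_card e₀).2 ⟨fun x y h => ?_, by rw [hproj, Nat.card_eq_fintype_card]⟩
    obtain ⟨a, ha⟩ := (Projectivization.mk_eq_mk_iff' F _ _ (hφ x) (hφ y)).1 h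
    exact hinj x y a ha
  let e := Equiv.ofBijective e₀ he₀
  -- every hyperplane is a block
  let d₀ : B → ℙ F (Fin (m + 1) → F) := fun b => Projectivization.mk F (w b) (hw b)
  have hd₀ : Function.Bijective d₀ := by
    refine (Nat.bijective_iff_injective_and_card d₀).2 ⟨fun b c h => D.pts_injective (Finset.ext fun x => ?_),
      by rw [hproj, Nat.card_eq_fintype_card, D.card_eq]⟩
    obtain ⟨a, ha⟩ := (Projectivization.mk_eq_mk_iff' F _ _ (hw b) (hw c)).1 h
    have ha0 : a ≠ 0 := fun e => hw b (by rw [← ha, e, zero_smul])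
    rw [hpts, hpts, ← ha, smul_dotProduct, smul_eq_mul, mul_eq_zero, or_iff_right ha0]
  have hblock : ∀ v : Fin (m + 1) → F, v ≠ 0 → ∃ b, ∀ x, x ∈ D.pts b ↔ v ⬝ᵥ φ x = 0 := by
    intro v hv
    obtain ⟨b, hb⟩ := hd₀.2 (Projectivization.mk F v hv)
    obtain ⟨a, ha⟩ := (Projectivization.mk_eq_mk_iff' F _ _ (hw b) hv).1 hb
    have ha0 : a ≠ 0 := fun e => hw b (by rw [← ha, e, zero_smul])
    exact ⟨b, fun x => by rw [hpts, ← ha, smul_dotProduct, smul_eq_mul, mul_eq_zero, or_iff_right ha0]⟩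
  -- the linear group on the points
  let Ψ : ProjectiveSpecialLinearGroup (Fin (m + 1)) F →* Equiv.Perm P :=
    e.symm.permCongrHom.toMonoidHom.comp Projectivization.PSLAction.toPermHom
  have hΨ : Function.Injective Ψ := e.symm.permCongrHom.injective.comp
    ProjectiveSpecialLinearGroup.toPermHom_injective
  let θ : SpecialLinearGroup (Fin (m + 1)) F →* Equiv.Perm P := Ψ.comp (QuotientGroup.mk' _)
  have hrange : θ.range = Ψ.range := by
    rw [MonoidHom.range_comp, MonoidHom.range_eq_top.2 (QuotientGroup.mk'_surjective _), MonoidHom.range_eq_map]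
  have hθ : ∀ (M : SpecialLinearGroup (Fin (m + 1)) F) (x y : P),
      θ M x = y ↔ ∃ a : F, a • φ y = M • φ x := by
    intro M x y
    show e.symm (M • e x) = y ↔ _
    rw [Equiv.symm_apply_eq]
    show M • Projectivization.mk F (φ x) (hφ x) = Projectivization.mk F (φ y) (hφ y) ↔ _
    rw [Projectivization.smul_mk, Projectivization.mk_eq_mk_iff']
  let ρ : G →* Equiv.Perm P := MulAction.toPermHom G P
  have hρ : Function.Injective ρ := (injective_iff_map_eq_one ρ).2 fun g hg =>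
    A.faithful g fun x => Equiv.ext_iff.1 hg x
  have hker : ∀ (c : B) (u : Fin (m + 1) → F) (hu : w c ⬝ᵥ u = 0),
      (∀ x ∈ D.pts c, θ (tv (w c) u hu) x = x) ∧
      (u ≠ 0 → ∀ x, x ∉ D.pts c → θ (tv (w c) u hu) x ≠ x) := by
    intro c u hu
    refine ⟨fun x hx => (hθ _ _ _).2 ⟨1, ?_⟩, fun hu0 x hx h => ?_⟩
    · rw [tv_smul, (hpts c x).1 hx, zero_smul, add_zero, one_smul]
    · obtain ⟨a, ha⟩ := (hθ _ _ _).1 h
      rw [tv_smul] at ha
      have h1 := congrArg (w c ⬝ᵥ ·) ha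
      simp only [dotProduct_add, dotProduct_smul, hu, smul_eq_mul, mul_zero, add_zero] at h1
      have hx' : w c ⬝ᵥ φ x ≠ 0 := fun e => hx ((hpts c x).2 e)
      rw [mul_eq_right₀ hx'] at h1
      rw [h1, one_smul] at ha
      exact (smul_ne_zero hx' hu0) (add_eq_left.1 ha.symm)
  have hmemT : ∀ (c : B) (u : Fin (m + 1) → F) (hu : w c ⬝ᵥ u = 0),
      ∃ g ∈ A.T c, ρ g = θ (tv (w c) u hu) := by
    intro c u hu
    by_cases hu0 : u = 0
    · refine ⟨1, one_mem _, ?_⟩
      rw [map_one, show tv (w c) u hu = 1 from Subtype.ext (by simp [tv, hu0]), map_one]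
    have hT : ∀ b, ∃ b', ∀ x, x ∈ D.pts b' ↔ (θ (tv (w c) u hu)).symm x ∈ D.pts b := by
      intro b
      obtain ⟨b', hb'⟩ := hblock (w b ᵥ* ((tv (w c) u hu)⁻¹).1) (fun h => hw b (by
        have h2 := congrArg (· ᵥ* (tv (w c) u hu).1) h
        simp only [vecMul_vecMul, zero_vecMul] at h2
        have h3 : ((tv (w c) u hu)⁻¹).1 * (tv (w c) u hu).1 = 1 :=
          congrArg Subtype.val (inv_mul_cancel (tv (w c) u hu))
        rwa [h3, vecMul_one] at h2))
      refine ⟨b', fun x => ?_⟩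
      obtain ⟨a, ha⟩ := (hθ (tv (w c) u hu) _ x).1 (Equiv.apply_symm_apply _ x)
      have ha0 : a ≠ 0 := fun e => by
        rw [e, zero_smul] at ha
        exact hφ _ ((smul_eq_zero_iff_eq _).1 ha.symm)
      have key : φ ((θ (tv (w c) u hu)).symm x) = a • (((tv (w c) u hu)⁻¹).1 *ᵥ φ x) := by
        show _ = a • ((tv (w c) u hu)⁻¹ • φ x)
        rw [← smul_comm, ha, inv_smul_smul]
      rw [hb', hpts, key, dotProduct_smul, dotProduct_mulVec, smul_eq_mul, mul_eq_zero, or_iff_right ha0]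
    choose σ₀ hσ₀ using hT
    have hσ : Function.Bijective σ₀ := Finite.injective_iff_bijective.1 fun b b' h => D.pts_injective (Finset.ext fun x => by
      have h1 := hσ₀ b (θ (tv (w c) u hu) x)
      have h2 := hσ₀ b' (θ (tv (w c) u hu) x)
      rw [Equiv.symm_apply_apply] at h1 h2
      rw [← h1, ← h2, h])
    obtain ⟨g, hg, hgx⟩ := A.mem_T_of_axial c (π := θ (tv (w c) u hu)) (σ := Equiv.ofBijective σ₀ hσ)
      (fun x b => by
        show _ ∈ D.pts (σ₀ b) ↔ _
        rw [hσ₀, Equiv.symm_apply_apply])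
      (hker c u hu).1 ((hker c u hu).2 hu0)
    exact ⟨g, hg, Equiv.ext hgx⟩
  let N : Subgroup G := ⨆ c, A.T c
  have hle : Ψ.range ≤ N.map ρ := by
    rw [← hrange, MonoidHom.range_eq_map, Subgroup.map_le_iff_le_comap,
      CfsgLib.Classical.SL_le_of_transvections ((N.map ρ).comap θ)]
    intro i j hij a
    obtain ⟨c, hc⟩ := hd₀.2 (Projectivization.mk F (Pi.single j 1) (by simp))
    obtain ⟨s, hs⟩ := (Projectivization.mk_eq_mk_iff' F _ _ (hw c) (by simp)).1 hc
    have hs0 : s ≠ 0 := fun e => hw c (by rw [← hs, e, zero_smul])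
    have hu : w c ⬝ᵥ Pi.single i (a / s) = 0 := by simp [← hs, hij]
    obtain ⟨g, hg, hgt⟩ := hmemT c _ hu
    rw [Subgroup.mem_comap, transvection_eq_tv hij a]
    refine ⟨g, (le_iSup A.T c) hg, hgt.trans (congrArg θ (Subtype.ext ?_))⟩
    show 1 + vecMulVec _ (w c) = 1 + vecMulVec _ _
    rw [← hs]
    ext x y
    simp only [Matrix.add_apply, vecMulVec_apply, Pi.smul_apply, Pi.single_apply, smul_eq_mul]
    split_ifs <;> field_simp <;> simp
  have hge : N.map ρ ≤ Ψ.range := by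
    rw [Subgroup.map_iSup, iSup_le_iff]
    intro c
    let K := {u : Fin (m + 1) → F // w c ⬝ᵥ u = 0}
    choose g hg hgu using fun u : K => hmemT c u.1 u.2
    let f : K → A.T c := fun u => ⟨g u, hg u⟩
    have hf : Function.Injective f := by
      intro u u' h
      by_contra hne
      have hu : w c ⬝ᵥ (u.1 - u'.1) = 0 := by rw [dotProduct_sub, u.2, u'.2, sub_zero]
      obtain ⟨x₀, hx₀⟩ := D.exists_notMem c
      refine (hker c _ hu).2 (sub_ne_zero.2 fun e => hne (Subtype.ext e)) x₀ hx₀ ?_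
      have hmul : tv (w c) (u.1 - u'.1) hu = (tv (w c) u'.1 u'.2)⁻¹ * tv (w c) u.1 u.2 := by
        refine eq_inv_mul_of_mul_eq (Subtype.ext ?_)
        show (1 + vecMulVec u'.1 (w c)) * (1 + vecMulVec (u.1 - u'.1) (w c)) = 1 + vecMulVec u.1 (w c)
        rw [mul_add, add_mul, add_mul, one_mul, one_mul, mul_one, vecMulVec_mul_vecMulVec, hu, zero_smul,
          sub_vecMulVec]
        simp [vecMulVec_zero]
      rw [hmul, map_mul, map_inv, ← hgu, ← hgu, show g u = g u' from congrArg Subtype.val h, inv_mul_cancel]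
      rfl
    obtain ⟨v₁, hv₁⟩ : ∃ v₁ : Fin (m + 1) → F, w c ⬝ᵥ v₁ = 1 := by
      obtain ⟨i, hi⟩ := Function.ne_iff.1 (hw c)
      exact ⟨Pi.single i (w c i)⁻¹, by simp [mul_inv_cancel₀ hi]⟩
    let h : {x : P // x ∉ D.pts c} → K := fun x =>
      ⟨(w c ⬝ᵥ φ x.1)⁻¹ • φ x.1 - v₁, by
        rw [dotProduct_sub, dotProduct_smul, hv₁, smul_eq_mul,
          inv_mul_cancel₀ (fun e => x.2 ((hpts c x.1).2 e)), sub_self]⟩
    have hh : Function.Injective h := by
      intro x y hxy
      have h1 := sub_left_inj.1 (congrArg Subtype.val hxy)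
      have hx' : w c ⬝ᵥ φ x.1 ≠ 0 := fun e => x.2 ((hpts c x.1).2 e)
      exact Subtype.ext (hinj x.1 y.1 ((w c ⬝ᵥ φ x.1) * (w c ⬝ᵥ φ y.1)⁻¹)
        (by rw [mul_smul, ← h1, smul_inv_smul₀ hx']))
    obtain ⟨d, hd⟩ := Fintype.exists_ne_of_one_lt_card (by rw [D.card_eq]; have := D.le_card; omega) c
    have hT : Nat.card (A.T c) ≤ Nat.card K := by
      refine le_trans (le_of_eq ?_) (Nat.card_le_card_of_injective h hh)
      have := (A.regular (Ne.symm hd)).2
      rw [Nat.card_eq_fintype_card (α := {x : P // x ∉ D.pts c}), Fintype.card_subtype_compl, Fintype.card_coe, D.card_pts]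
      omega
    have hbij := (Nat.bijective_iff_injective_and_card f).2
      ⟨hf, le_antisymm (Nat.card_le_card_of_injective f hf) hT⟩
    rintro _ ⟨y, hy, rfl⟩
    obtain ⟨u, hu⟩ := hbij.2 ⟨y, hy⟩
    rw [← hrange, ← show g u = y from congrArg Subtype.val hu, hgu]
    exact ⟨_, rfl⟩
  refine ⟨N, ?_, ⟨((N.equivMapOfInjective ρ hρ).trans (MulEquiv.subgroupCongr (le_antisymm hge hle))).trans
    (MonoidHom.ofInjective hΨ).symm⟩, ?_⟩
  · refine ⟨fun n hn g => ?_⟩
    have hmap : N.map (MulAut.conj g).toMonoidHom ≤ N := by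
      rw [Subgroup.map_iSup, iSup_le_iff]
      rintro c _ ⟨y, hy, rfl⟩
      exact (le_iSup A.T (g • c)) (A.equiv g c y hy)
    exact hmap ⟨n, hn, rfl⟩
  · rw [eq_bot_iff]
    intro g hg
    have hgc : ∀ c x, g • x ∈ D.pts c ↔ x ∈ D.pts c := by
      intro c x
      obtain ⟨t, ht, ht1⟩ := (Subgroup.ne_bot_iff_exists_ne_one.1 (A.ne_bot c) : ∃ t : A.T c, t ≠ 1) |>
        fun ⟨t, ht⟩ => (⟨(t : G), t.2, fun e => ht (Subtype.ext e)⟩ : ∃ t : G, t ∈ A.T c ∧ t ≠ 1)
      have hcomm : t * g = g * t := Subgroup.mem_centralizer_iff.1 hg t ((le_iSup A.T c) ht)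
      rw [← A.fix_iff ht ht1, ← A.fix_iff ht ht1, ← mul_smul, hcomm, mul_smul, smul_left_cancel_iff]
    exact Subgroup.mem_bot.2 (A.faithful g fun x => D.thru_injective fun c => hgc c x)

end CfsgLib.AxialDesign
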