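import Cfsg.Agent.Lib.AxialDesign.Group
import Cfsg.Agent.Lib.Solvable.FrobeniusTheorem

/-!
# Ito's theorem

A two-transitive group with an intransitive fixed-point-free subgroup of index equal to the degree
which is unfaithful on one of its orbits contains a projective special linear group.
-/

set_option autoImplicit false
set_option linter.unusedSectionVars false
set_option linter.style.haveILetI false

namespace CfsgLib.AxialDesign

open Finset MulAction
open scoped Pointwise

variable {P B : Type*} [Fintype P] [Fintype B] [DecidableEq P] [DecidableEq B]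
variable {G : Type*} [Group G] [Finite G] [MulAction G P] [MulAction G B]

/-- An equivariant family of as many blocks as points of a two-transitive group is a symmetric
design. -/
theorem exists_design (pts : B → Finset P) (k : ℕ)
    (heq : ∀ (g : G) (x : P) (b : B), g • x ∈ pts (g • b) ↔ x ∈ pts b) (hk : ∀ b, #(pts b) = k)
    (htrans : ∀ x y : P, ∃ g : G, g • x = y)
    (h2 : ∀ a b c d : P, a ≠ b → c ≠ d → ∃ g : G, g • a = c ∧ g • b = d)
    (hcard : Fintype.card B = Fintype.card P) (hk2 : 2 ≤ k) (hkn : k + 2 ≤ Fintype.card P) :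
    ∃ D : SD P B, D.pts = pts ∧ D.k = k := by
  classical
  have hshift : ∀ (Q : B → Prop) [DecidablePred Q] (g : G), #(univ.filter Q) = #(univ.filter fun b => Q (g • b)) := fun Q _ g =>
    card_bij (fun b _ => g⁻¹ • b) (fun b hb => by simpa using hb)
      (fun b _ c _ e => smul_left_cancel g⁻¹ e) (fun b hb => ⟨g • b, by simpa using hb, inv_smul_smul g b⟩)
  obtain ⟨x₀⟩ : Nonempty P := Fintype.card_pos_iff.1 (by omega)
  have hdouble : ∀ (S : Finset B), ∑ y : P, #(S.filter fun b => y ∈ pts b) = #S * k := by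
    intro S
    have h := sum_card_bipartiteAbove_eq_sum_card_bipartiteBelow (s := S) (t := (univ : Finset P)) (fun b y => y ∈ pts b)
    simp only [bipartiteAbove, bipartiteBelow, filter_mem_eq_inter, univ_inter, hk, sum_const, smul_eq_mul] at h
    exact h.symm
  have hr : ∀ x, #(univ.filter fun b => x ∈ pts b) = k := by
    have hconst : ∀ x, #(univ.filter fun b => x ∈ pts b) = #(univ.filter fun b => x₀ ∈ pts b) := fun x => by
      obtain ⟨g, rfl⟩ := htrans x₀ x
      refine (hshift (fun b => g • x₀ ∈ pts b) g).trans ?_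
      simp only [heq]
    intro x
    have h := hdouble univ
    rw [sum_congr rfl fun y _ => hconst y, sum_const, smul_eq_mul, card_univ, card_univ, hcard, ← hconst x] at h
    exact Nat.eq_of_mul_eq_mul_left (by omega) h
  obtain ⟨y₀, hy₀⟩ := Fintype.exists_ne_of_one_lt_card (show 1 < Fintype.card P by omega) x₀
  set l := #(univ.filter fun b => x₀ ∈ pts b ∧ y₀ ∈ pts b) with hl
  have hpair : ∀ x y, x ≠ y → #(univ.filter fun b => x ∈ pts b ∧ y ∈ pts b) = l := fun x y hxy => by
    obtain ⟨g, rfl, rfl⟩ := h2 x₀ y₀ x y hy₀.symm hxy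
    refine (hshift (fun b => g • x₀ ∈ pts b ∧ g • y₀ ∈ pts b) g).trans ?_
    simp only [heq, hl]
  obtain ⟨n, hn⟩ : ∃ n, Fintype.card P = n + 1 := ⟨Fintype.card P - 1, by omega⟩
  obtain ⟨j, hj⟩ : ∃ j, k = j + 1 := ⟨k - 1, by omega⟩
  have hbasic : n * l = k * j := by
    have h := hdouble (univ.filter fun b => x₀ ∈ pts b)
    simp only [filter_filter] at h
    rw [← add_sum_erase _ _ (mem_univ x₀), sum_congr rfl (fun y hy => hpair x₀ y (ne_of_mem_erase hy).symm),
      sum_const, smul_eq_mul, card_erase_of_mem (mem_univ x₀), card_univ, hn, Nat.add_sub_cancel] at h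
    simp only [and_self, hr] at h
    rw [hj] at h ⊢
    nlinarith
  have hllt : l < k := by
    by_contra hc
    push Not at hc
    nlinarith [Nat.mul_le_mul_left n hc]
  have hinter : ∀ b c, b ≠ c → #(pts b ∩ pts c) = l := by
    intro b c hbc
    have h1 : ∑ e ∈ univ.erase b, #(pts b ∩ pts e) = k * j := by
      have h := sum_card_bipartiteAbove_eq_sum_card_bipartiteBelow (s := univ.erase b) (t := pts b) (fun e y => y ∈ pts e)
      simp only [bipartiteAbove, bipartiteBelow, filter_mem_eq_inter] at h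
      rw [h, sum_congr rfl (g := fun _ => j) fun y hy => ?_, sum_const, smul_eq_mul, hk]
      rw [filter_erase, card_erase_of_mem (by simpa using hy), hr]
      omega
    have h2' : ∑ e ∈ univ.erase b, #(pts b ∩ pts e) * #(pts b ∩ pts e) = k * j + k * j * (l - 1) := by
      have h := sum_card_bipartiteAbove_eq_sum_card_bipartiteBelow (s := univ.erase b) (t := pts b ×ˢ pts b)
        (fun e q => q.1 ∈ pts e ∧ q.2 ∈ pts e)
      simp only [bipartiteAbove, bipartiteBelow] at h
      rw [sum_product] at h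
      rw [sum_congr rfl (g := fun e => #((pts b ×ˢ pts b).filter fun q => q.1 ∈ pts e ∧ q.2 ∈ pts e)) fun e _ => by
          rw [filter_product (fun y => y ∈ pts e) (fun y => y ∈ pts e), card_product, filter_mem_eq_inter], h]
      have hin : ∀ y ∈ pts b, ∑ z ∈ pts b, #((univ.erase b).filter fun e => y ∈ pts e ∧ z ∈ pts e) = j + j * (l - 1) := by
        intro y hy
        rw [← add_sum_erase _ _ hy, sum_congr rfl (g := fun _ => l - 1) fun z hz => ?_, sum_const, smul_eq_mul,
          card_erase_of_mem hy, hk]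
        · simp only [and_self]
          rw [filter_erase, card_erase_of_mem (by simpa using hy), hr, hj]
          simp
        · rw [filter_erase, card_erase_of_mem (by simp [hy, mem_of_mem_erase hz]), hpair _ _ (ne_of_mem_erase hz).symm]
      rw [sum_congr rfl hin, sum_const, smul_eq_mul, hk, Nat.mul_add, mul_assoc]
    have hsum : ∑ e ∈ univ.erase b, ((#(pts b ∩ pts e) : ℤ) - l) ^ 2 = 0 := by
      have e1 : (∑ e ∈ univ.erase b, (#(pts b ∩ pts e) : ℤ)) = k * j := by exact_mod_cast h1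
      have e2 : (∑ e ∈ univ.erase b, ((#(pts b ∩ pts e) : ℤ) * #(pts b ∩ pts e))) = k * j + k * j * ((l - 1 : ℕ) : ℤ) := by
        exact_mod_cast h2'
      have hl1 : 1 ≤ l := by
        rcases Nat.eq_zero_or_pos l with h | h
        · rw [h, mul_zero] at hbasic
          rcases Nat.mul_eq_zero.1 hbasic.symm with h' | h' <;> omega
        · exact h
      rw [Nat.cast_sub hl1] at e2
      rw [sum_congr rfl (g := fun e => (#(pts b ∩ pts e) : ℤ) * #(pts b ∩ pts e) - 2 * l * #(pts b ∩ pts e) + l * l)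
        (fun e _ => by ring), sum_add_distrib, sum_sub_distrib, ← mul_sum]
      rw [e1, e2, sum_const, card_erase_of_mem (mem_univ b), card_univ, hcard, hn, Nat.add_sub_cancel, nsmul_eq_mul]
      have e3 : (n : ℤ) * l = k * j := by exact_mod_cast hbasic
      push_cast
      linear_combination (l : ℤ) * e3
    have := (sum_eq_zero_iff_of_nonneg fun e _ => sq_nonneg _).1 hsum c (mem_erase.2 ⟨hbc.symm, mem_univ c⟩)
    have := sq_eq_zero_iff.1 this
    omega
  exact ⟨⟨pts, k, l, hk, hr, hpair, hinter, hllt, hk2, hkn⟩, rfl, rfl⟩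

/-- Burnside on pairs. -/
theorem SD.IsAut.card_orbits_pairs {D : SD P B} (hA : D.IsAut G) :
    Nat.card (orbitRel.Quotient G (B × B)) = Nat.card (orbitRel.Quotient G (P × P)) := by
  classical
  cases nonempty_fintype G
  refine Nat.eq_of_mul_eq_mul_right (Nat.card_pos (α := G)) ?_
  rw [← CfsgLib.OstromWagner.sum_fixed_eq, ← CfsgLib.OstromWagner.sum_fixed_eq]
  refine sum_congr rfl fun g _ => ?_
  have key : ∀ (X : Type _) [Fintype X] [DecidableEq X] [MulAction G X],
      Nat.card {x : X × X // g • x = x} = #(univ.filter fun x : X => g • x = x) * #(univ.filter fun x : X => g • x = x) := by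
    intro X _ _ _
    rw [Nat.card_eq_fintype_card, Fintype.card_subtype, ← card_product, ← filter_product]
    congr 1
    ext x
    simp [Prod.ext_iff]
  rw [key B]
  have key' : Nat.card {x : P × P // g • x = x} = #(univ.filter fun x : P => g • x = x) * #(univ.filter fun x : P => g • x = x) := by
    rw [Nat.card_eq_fintype_card, Fintype.card_subtype, ← card_product, ← filter_product]
    congr 1
    ext x
    simp [Prod.ext_iff]
  rw [key', hA.fix_eq]

theorem SD.IsAut.card_orbits {D : SD P B} (hA : D.IsAut G) (S : Subgroup G) :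
    Nat.card (orbitRel.Quotient S B) = Nat.card (orbitRel.Quotient S P) := by
  classical
  cases nonempty_fintype G
  refine Nat.eq_of_mul_eq_mul_right (Nat.card_pos (α := S)) ?_
  rw [← CfsgLib.OstromWagner.sum_fixed_eq, ← CfsgLib.OstromWagner.sum_fixed_eq]
  refine sum_congr rfl fun g _ => ?_
  rw [Nat.card_eq_fintype_card, Fintype.card_subtype, Nat.card_eq_fintype_card, Fintype.card_subtype]
  exact (hA.fix_eq (g : G)).symm

theorem SD.IsAut.pairs {D : SD P B} (hA : D.IsAut G)
    (h2 : ∀ a b c d : P, a ≠ b → c ≠ d → ∃ g : G, g • a = c ∧ g • b = d)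
    (htrans : ∀ x y : P, ∃ g : G, g • x = y) (b c b' c' : B) (h : b ≠ c) (h' : b' ≠ c') :
    ∃ g : G, g • b = b' ∧ g • c = c' := by
  classical
  obtain ⟨a₀⟩ : Nonempty P := Fintype.card_pos_iff.1 (by have := D.le_card; omega)
  obtain ⟨a₁, ha₁⟩ := Fintype.exists_ne_of_one_lt_card (show 1 < Fintype.card P by have := D.le_card; omega) a₀
  let f : Bool → orbitRel.Quotient G (P × P) := fun t =>
    bif t then Quotient.mk'' (a₀, a₀) else Quotient.mk'' (a₀, a₁)
  have hf : Function.Surjective f := by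
    intro q
    refine Quotient.inductionOn' q fun ⟨x, y⟩ => ?_
    by_cases hxy : x = y
    · obtain ⟨g, hg⟩ := htrans x a₀
      exact ⟨true, Quotient.sound' ⟨g, by simp [← hxy, hg]⟩⟩
    · obtain ⟨g, hg, hg'⟩ := h2 x y a₀ a₁ hxy ha₁.symm
      exact ⟨false, Quotient.sound' ⟨g, by simp [hg, hg']⟩⟩
  have hle : Nat.card (orbitRel.Quotient G (B × B)) ≤ 2 := by
    rw [hA.card_orbits_pairs]
    exact (Nat.card_le_card_of_surjective f hf).trans (by simp)
  obtain ⟨g, hg⟩ := CfsgLib.OstromWagner.exists_smul_of_two_orbits (G := G) hle (Q := fun q => q.1 ≠ q.2)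
    (fun g q hq e => hq (smul_left_cancel g e)) (y := (b, b)) (by simp) (a := (b, c)) (b := (b', c')) h h'
  exact ⟨g, congrArg Prod.fst hg, congrArg Prod.snd hg⟩

/-- The stabiliser of a block is transitive outside the block. -/
theorem SD.IsAut.trans_outside {D : SD P B} (hA : D.IsAut G)
    (hB : ∀ b c b' c' : B, b ≠ c → b' ≠ c' → ∃ g : G, g • b = b' ∧ g • c = c') (b : B) {x y : P}
    (hx : x ∉ D.pts b) (hy : y ∉ D.pts b) : ∃ g : G, g • b = b ∧ g • x = y := by
  classical
  obtain ⟨c, hc⟩ := Fintype.exists_ne_of_one_lt_card (show 1 < Fintype.card B by rw [D.card_eq]; have := D.le_card; omega) b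
  let f : Bool → orbitRel.Quotient (stabilizer G b) B := fun t =>
    bif t then Quotient.mk'' b else Quotient.mk'' c
  have hf : Function.Surjective f := by
    intro q
    refine Quotient.inductionOn' q fun d => ?_
    by_cases hd : d = b
    · exact ⟨true, by rw [hd]; rfl⟩
    · obtain ⟨g, hg, hg'⟩ := hB b d b c (Ne.symm hd) hc.symm
      exact ⟨false, Quotient.sound' ⟨⟨g, hg⟩, hg'⟩⟩
  have hle : Nat.card (orbitRel.Quotient (stabilizer G b) P) ≤ 2 := by
    rw [← hA.card_orbits]
    exact (Nat.card_le_card_of_surjective f hf).trans (by simp)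
  obtain ⟨p, hp⟩ := D.exists_mem b
  obtain ⟨g, hg⟩ := CfsgLib.OstromWagner.exists_smul_of_two_orbits (G := stabilizer G b) hle
    (Q := fun z => z ∉ D.pts b) (fun g z hz h => hz (by
      have := hA.mem_of_fix (g := ((g⁻¹ : stabilizer G b) : G)) (g⁻¹).2 h
      rwa [← Subgroup.smul_def, inv_smul_smul] at this)) (y := p) (by simpa using hp) hx hy
  exact ⟨g, g.2, hg⟩

/-- The elements fixing exactly a block pointwise form, with the identity, a non-trivial group. -/
theorem exists_axial_group {D : SD P B} (hA : D.IsAut G) (hfaith : ∀ g : G, (∀ x : P, g • x = x) → g = 1)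
    (hB : ∀ b c b' c' : B, b ≠ c → b' ≠ c' → ∃ g : G, g • b = b' ∧ g • c = c') (b : B)
    (hne : ∃ g : G, g ≠ 1 ∧ ∀ x ∈ D.pts b, g • x = x) :
    ∃ S : Subgroup G, S ≠ ⊥ ∧ ∀ g, g ∈ S ↔ (∀ x ∈ D.pts b, g • x = x) ∧ (g = 1 ∨ ∀ x, x ∉ D.pts b → g • x ≠ x) := by
  classical
  cases nonempty_fintype G
  set K := fixingSubgroup G (D.pts b : Set P) with hKdef
  have hK : ∀ g, g ∈ K ↔ ∀ x ∈ D.pts b, g • x = x := fun g => mem_fixingSubgroup_iff _
  have htwo : ∀ g ∈ K, ∀ p p', p ∉ D.pts b → p' ∉ D.pts b → p ≠ p' → g • p = p → g • p' = p' → g = 1 :=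
    fun g hg p p' hp hp' hne h h' => hfaith g (hA.eq_one_of_two_fix ((hK g).1 hg) hp hp' hne h h')
  by_cases hfree : ∀ g ∈ K, g ≠ 1 → ∀ x, x ∉ D.pts b → g • x ≠ x
  · refine ⟨K, fun e => ?_, fun g => ⟨fun hg => ⟨(hK g).1 hg, or_iff_not_imp_left.2 (hfree g hg)⟩,
      fun h => (hK g).2 h.1⟩⟩
    obtain ⟨g, hg, hg'⟩ := hne
    exact hg (Subgroup.mem_bot.1 (e ▸ (hK g).2 hg'))
  push Not at hfree
  obtain ⟨g₀, hg₀, hg₀1, x₀, hx₀, hg₀x⟩ := hfree
  have hnotmem : ∀ g ∈ K, ∀ x, x ∉ D.pts b → g • x ∉ D.pts b := fun g hg x hx h => hx (by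
    have := (hK g⁻¹).1 (inv_mem hg) _ h
    rw [inv_smul_smul] at this
    exact this.symm ▸ h)
  -- every outside point has a non-trivial stabiliser
  have hnormal : ∀ u : G, u • b = b → ∀ g ∈ K, u * g * u⁻¹ ∈ K := by
    intro u hu g hg
    refine (hK _).2 fun x hx => ?_
    have hu' : u⁻¹ • b = b := inv_smul_eq_iff.2 hu.symm
    rw [mul_smul, mul_smul, (hK g).1 hg _ (hA.mem_of_fix hu' hx), smul_inv_smul]
  have hstab : ∀ x, x ∉ D.pts b → ∃ g ∈ K, g ≠ 1 ∧ g • x = x := by
    intro x hx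
    obtain ⟨u, hu, hux⟩ := hA.trans_outside hB b hx₀ hx
    refine ⟨u * g₀ * u⁻¹, hnormal u hu _ hg₀, fun e => hg₀1 (conj_eq_one_iff.1 e), ?_⟩
    rw [← hux, mul_smul, mul_smul, inv_smul_smul, hg₀x]
  -- the pointwise stabiliser is transitive outside
  have hKtrans : ∀ x, x ∉ D.pts b → x ∈ orbit K x₀ := by
    intro y hy
    by_contra hno
    have horb : ∀ x, x ∉ D.pts b → (orbit K x).ncard = (orbit K x₀).ncard := by
      intro x hx
      obtain ⟨u, hu, rfl⟩ := hA.trans_outside hB b hx₀ hx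
      have hu' : u⁻¹ • b = b := inv_smul_eq_iff.2 hu.symm
      have himg : (fun z => u • z) '' orbit K x₀ = orbit K (u • x₀) := by
        ext z
        constructor
        · rintro ⟨_, ⟨g, rfl⟩, rfl⟩
          refine ⟨⟨u * g * u⁻¹, hnormal u hu g g.2⟩, ?_⟩
          show (u * g * u⁻¹) • u • x₀ = u • (g : G) • x₀
          simp [mul_smul]
        · rintro ⟨g, rfl⟩
          refine ⟨_, ⟨⟨u⁻¹ * g * u, by simpa using hnormal u⁻¹ hu' g g.2⟩, rfl⟩, ?_⟩
          show u • (u⁻¹ * g * u) • x₀ = (g : G) • u • x₀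
          simp [mul_smul]
      rw [← himg, Set.ncard_image_of_injective _ (MulAction.injective u)]
    set C := (univ : Finset P).filter fun x => x ∉ D.pts b with hC
    have horbC : ∀ x, x ∉ D.pts b → orbit K x ⊆ (C : Set P) := by
      rintro x hx _ ⟨g, rfl⟩
      simpa [hC, Subgroup.smul_def] using hnotmem g g.2 x hx
    have hdisj : Disjoint (orbit K x₀) (orbit K y) := by
      refine (orbit.eq_or_disjoint (G := K) x₀ y).resolve_left fun e => hno (e ▸ mem_orbit_self y)
    have h2e : 2 * (orbit K x₀).ncard ≤ #C := by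
      rw [← Set.ncard_coe_finset, two_mul]
      conv_lhs => arg 2; rw [← horb y hy]
      rw [← Set.ncard_union_eq hdisj (Set.toFinite _) (Set.toFinite _)]
      exact Set.ncard_le_ncard (Set.union_subset (horbC x₀ hx₀) (horbC y hy)) (Set.toFinite _)
    have hcount : ∑ x ∈ C, #(((univ : Finset G).filter fun g => g ∈ K ∧ g ≠ 1).filter fun g => g • x = x) ≤
        #((univ : Finset G).filter fun g => g ∈ K ∧ g ≠ 1) := by
      have h := sum_card_bipartiteAbove_eq_sum_card_bipartiteBelow (s := C)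
        (t := (univ : Finset G).filter fun g => g ∈ K ∧ g ≠ 1) (fun x g => g • x = x)
      simp only [bipartiteAbove, bipartiteBelow] at h
      rw [h, card_eq_sum_ones]
      refine sum_le_sum fun g hg => card_le_one.2 fun p hp p' hp' => ?_
      simp only [hC, mem_filter, mem_univ, true_and] at hg hp hp'
      by_contra hne'
      exact hg.2 (htwo g hg.1 p p' hp.1 hp'.1 hne' hp.2 hp'.2)
    have hKcard : #((univ : Finset G).filter fun g => g ∈ K ∧ g ≠ 1) + 1 = Nat.card K := by
      rw [show ((univ : Finset G).filter fun g => g ∈ K ∧ g ≠ 1) = (univ.filter fun g => g ∈ K).erase 1 by ext; simp [and_comm],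
        card_erase_add_one (by simp [one_mem]), Nat.card_eq_fintype_card, Fintype.card_subtype]
    have hes : ∀ x ∈ C, (orbit K x₀).ncard *
        (#(((univ : Finset G).filter fun g => g ∈ K ∧ g ≠ 1).filter fun g => g • x = x) + 1) = Nat.card K := by
      intro x hx
      have hx' : x ∉ D.pts b := by simpa [hC] using hx
      rw [← horb x hx', ← CfsgLib.OstromWagner.ncard_orbit_mul K x]
      congr 1
      rw [show (((univ : Finset G).filter fun g => g ∈ K ∧ g ≠ 1).filter fun g => g • x = x) =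
          (univ.filter fun g => g ∈ K ⊓ stabilizer G x).erase 1 by ext; simp [and_comm, and_left_comm],
        card_erase_add_one (by simp [one_mem]), Nat.card_eq_fintype_card, Fintype.card_subtype]
    have hpos : ∀ x ∈ C, 1 ≤ #(((univ : Finset G).filter fun g => g ∈ K ∧ g ≠ 1).filter fun g => g • x = x) := by
      intro x hx
      obtain ⟨g, hg, hg1, hgx⟩ := hstab x (by simpa [hC] using hx)
      exact card_pos.2 ⟨g, by simp [hg, hg1, hgx]⟩
    set s := #(((univ : Finset G).filter fun g => g ∈ K ∧ g ≠ 1).filter fun g => g • x₀ = x₀) with hs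
    have hx₀C : x₀ ∈ C := by simp [hC, hx₀]
    have he : 0 < (orbit K x₀).ncard := (Set.ncard_pos (Set.toFinite _)).2 ⟨x₀, mem_orbit_self x₀⟩
    rw [sum_congr rfl (g := fun _ => s) fun x hx => Nat.add_right_cancel
      (Nat.eq_of_mul_eq_mul_left he ((hes x hx).trans (hes x₀ hx₀C).symm)), sum_const, smul_eq_mul] at hcount
    have h1 := hes x₀ hx₀C
    have h3 : 1 ≤ s := hpos x₀ hx₀C
    rw [← hs] at h1
    nlinarith [Nat.mul_le_mul_right s h2e, Nat.mul_le_mul_left (orbit K x₀).ncard h3]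
  -- the Frobenius kernel
  set Hx := stabilizer K x₀ with hHx
  have hFrob : Cfsg.IsFrobeniusComplement Hx := by
    refine ⟨fun (e : Hx = ⊥) => ?_, fun e => ?_, fun g hg => ?_⟩
    · have h1 : (⟨g₀, hg₀⟩ : K) ∈ Hx := hg₀x
      rw [e, Subgroup.mem_bot] at h1
      exact hg₀1 (congrArg Subtype.val h1)
    · obtain ⟨y, hy, hyx⟩ : ∃ y, y ∉ D.pts b ∧ y ≠ x₀ := by
        by_contra hc
        push Not at hc
        have : (univ : Finset P) ⊆ insert x₀ (D.pts b) := fun y _ => by
          by_cases hy : y ∈ D.pts b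
          · exact mem_insert_of_mem hy
          · exact mem_insert.2 (Or.inl (hc y hy))
        have := (card_le_card this).trans (card_insert_le _ _)
        rw [card_univ, D.card_pts] at this
        have := D.le_card
        omega
      obtain ⟨g, hg⟩ := hKtrans y hy
      have : g ∈ Hx := e ▸ Subgroup.mem_top g
      exact hyx (hg.symm.trans this)
    · rw [eq_bot_iff]
      rintro h ⟨h1, h2⟩
      have h2 : h ∈ MulAut.conj g • Hx := h2
      rw [Subgroup.mem_pointwise_smul_iff_inv_smul_mem] at h2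
      have h2' : (g⁻¹ * h * g) • x₀ = x₀ := by
        simpa [hHx] using h2
      have h3 : h • g • x₀ = g • x₀ := by
        rwa [mul_smul, mul_smul, inv_smul_eq_iff] at h2'
      refine Subgroup.mem_bot.2 (Subtype.ext (htwo h h.2 x₀ ((g : G) • x₀) hx₀ (hnotmem g g.2 x₀ hx₀)
        (fun e => hg (show g • x₀ = x₀ from e.symm)) h1 h3))
  obtain ⟨N, hN, -, hcompl⟩ := CfsgLib.Solvable.frobenius_theorem hFrob
  refine ⟨N.map K.subtype, fun e => ?_, fun g => ?_⟩
  · rw [Subgroup.map_eq_bot_iff_of_injective _ K.subtype_injective] at e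
    rw [e, Subgroup.isComplement'_bot_left] at hcompl
    exact hFrob.2.1 hcompl
  have hmem : ∀ h : K, h ∈ N ↔ h = 1 ∨ ∀ x, x ∉ D.pts b → h • x ≠ x := by
    intro h
    rw [← SetLike.mem_coe, hN, Cfsg.frobeniusKernel, Set.mem_ofPred_eq]
    refine or_congr Iff.rfl ⟨fun hh x hx e => ?_, fun hh u hu => ?_⟩
    · obtain ⟨u, hu⟩ := hKtrans x hx
      refine hh u (Subgroup.mem_pointwise_smul_iff_inv_smul_mem.2 ?_)
      have : (u⁻¹ * h * u) • x₀ = x₀ := by
        rw [mul_smul, mul_smul, show u • x₀ = x from hu, e, inv_smul_eq_iff]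
        exact hu.symm
      simpa [hHx] using this
    · rw [Subgroup.mem_pointwise_smul_iff_inv_smul_mem] at hu
      have h2 : (u⁻¹ * h * u) • x₀ = x₀ := by simpa [hHx] using hu
      rw [mul_smul, mul_smul, inv_smul_eq_iff] at h2
      exact hh (u • x₀) (hnotmem u u.2 x₀ hx₀) h2
  constructor
  · rintro ⟨h, hh, rfl⟩
    refine ⟨(hK _).1 h.2, ((hmem h).1 hh).imp (fun e => by simp [e]) id⟩
  · rintro ⟨h1, h2⟩
    exact ⟨⟨g, (hK g).2 h1⟩, (hmem _).2 (h2.imp (fun e => Subtype.ext e) id), rfl⟩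

theorem exists_axial {D : SD P B} (hA : D.IsAut G) (hfaith : ∀ g : G, (∀ x : P, g • x = x) → g = 1)
    (h2 : ∀ a b c d : P, a ≠ b → c ≠ d → ∃ g : G, g • a = c ∧ g • b = d)
    (htrans : ∀ x y : P, ∃ g : G, g • x = y) (hne : ∃ b, ∃ g : G, g ≠ 1 ∧ ∀ x ∈ D.pts b, g • x = x) :
    Nonempty (Axial G D) := by
  have hB := hA.pairs h2 htrans
  obtain ⟨b₀, g₀, hg₀, hfix₀⟩ := hne
  have hall : ∀ b, ∃ g : G, g ≠ 1 ∧ ∀ x ∈ D.pts b, g • x = x := by
    intro b
    by_cases hb : b = b₀
    · exact hb ▸ ⟨g₀, hg₀, hfix₀⟩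
    obtain ⟨u, hu, -⟩ := hB b₀ b b b₀ (Ne.symm hb) hb
    refine ⟨u * g₀ * u⁻¹, fun e => hg₀ (conj_eq_one_iff.1 e), fun x hx => ?_⟩
    rw [← hu, hA.mem_smul_iff] at hx
    rw [mul_smul, mul_smul, hfix₀ _ hx, smul_inv_smul]
  choose T hT0 hT using fun b => exists_axial_group hA hfaith hB b (hall b)
  exact ⟨{
    aut := hA
    faithful := hfaith
    T := T
    fix := fun b g hg => ((hT b g).1 hg).1
    free := fun b g hg h1 => ((hT b g).1 hg).2.resolve_left h1
    equiv := fun u b g hg => by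
      obtain ⟨h1, h2'⟩ := (hT b g).1 hg
      refine (hT _ _).2 ⟨fun x hx => ?_, h2'.imp (fun e => by simp [e]) fun hfree x hx e => ?_⟩
      · rw [hA.mem_smul_iff] at hx
        rw [mul_smul, mul_smul, h1 _ hx, smul_inv_smul]
      · rw [hA.mem_smul_iff] at hx
        refine hfree _ hx ?_
        rwa [mul_smul, mul_smul, smul_eq_iff_eq_inv_smul] at e
    ne_bot := hT0
    pairs := hB }⟩

open _root_.Classical in
/-- Ito's theorem. -/
theorem ito {G Ω : Type*} [Group G] [Finite G] [MulAction G Ω] [FaithfulSMul G Ω] [Finite Ω]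
    (h2 : MulAction.IsMultiplyPretransitive G Ω 2) (H : Subgroup G) (hidx : H.index = Nat.card Ω)
    (hnt : ¬ MulAction.IsPretransitive H Ω) (hfix : ∀ a : Ω, ∃ h : H, h • a ≠ a)
    (hunf : ∃ a : Ω, ∃ h : H, h ≠ 1 ∧ ∀ b ∈ MulAction.orbit H a, h • b = b) :
    ∃ (m : ℕ) (F : Type) (_ : Field F) (_ : Fintype F), 2 ≤ m ∧
      Nat.card Ω = (Fintype.card F ^ (m + 1) - 1) / (Fintype.card F - 1) ∧
      ∃ N : Subgroup G, N.Normal ∧
        Nonempty (N ≃* Matrix.ProjectiveSpecialLinearGroup (Fin (m + 1)) F) ∧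
        Subgroup.centralizer (N : Set G) = ⊥ := by
  cases nonempty_fintype Ω
  obtain ⟨a, h₀, hh₀, hfix₀⟩ := hunf
  have h2'' : ∀ x y z w : Ω, x ≠ y → z ≠ w → ∃ g : G, g • x = z ∧ g • y = w :=
    fun x y z w h h' => MulAction.is_two_pretransitive_iff.1 h2 h h'
  have hnt' : ∃ y, y ∉ orbit H a := by
    by_contra hc
    push Not at hc
    refine hnt ⟨fun x y => ?_⟩
    obtain ⟨u, hu⟩ := hc x
    obtain ⟨v, hv⟩ := hc y
    exact ⟨v * u⁻¹, by rw [← hu, mul_smul, inv_smul_smul]; exact hv⟩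
  obtain ⟨y₀, hy₀⟩ := hnt'
  set k := (orbit H a).ncard with hk
  have hk2 : 2 ≤ k := by
    obtain ⟨h, hh⟩ := hfix a
    exact Set.one_lt_ncard_iff_nontrivial.2 ⟨h • a, mem_orbit a h, a, mem_orbit_self a, hh⟩
  have hkn : k + 2 ≤ Fintype.card Ω := by
    obtain ⟨h, hh⟩ := hfix y₀
    have hy₁ : h • y₀ ∉ orbit H a := fun e => hy₀ (by
      have := mem_orbit_of_mem_orbit h⁻¹ e
      rwa [inv_smul_smul] at this)
    have hsub : insert y₀ (insert (h • y₀) (orbit H a)) ⊆ (Set.univ : Set Ω) := Set.subset_univ _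
    have := Set.ncard_le_ncard hsub
    rw [Set.ncard_insert_of_notMem (by simp [hy₀, hh.symm]), Set.ncard_insert_of_notMem hy₁, Set.ncard_univ,
      Nat.card_eq_fintype_card] at this
    omega
  have htrans : ∀ x y : Ω, ∃ g : G, g • x = y := by
    intro x y
    by_cases hxy : x = y
    · exact ⟨1, by rw [one_smul, hxy]⟩
    · obtain ⟨g, hg, -⟩ := h2'' x y y x hxy (Ne.symm hxy)
      exact ⟨g, hg⟩
  letI : Fintype (G ⧸ H) := Fintype.ofFinite _
  let pts : G ⧸ H → Finset Ω := fun b => univ.filter fun x => b.out⁻¹ • x ∈ orbit H a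
  have hpts : ∀ (g : G) (x : Ω), x ∈ pts (g : G ⧸ H) ↔ g⁻¹ • x ∈ orbit H a := by
    intro g x
    obtain ⟨h, hh⟩ := QuotientGroup.mk_out_eq_mul H g
    simp only [pts, mem_filter, mem_univ, true_and, hh, mul_inv_rev, mul_smul]
    exact ⟨fun e => by
      have := mem_orbit_of_mem_orbit h e
      rwa [Subgroup.smul_def, smul_inv_smul] at this,
      fun e => mem_orbit_of_mem_orbit (h⁻¹ : H) e⟩
  have heq : ∀ (g : G) (x : Ω) (b : G ⧸ H), g • x ∈ pts (g • b) ↔ x ∈ pts b := by
    intro g x b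
    induction b using QuotientGroup.induction_on with
    | _ u => rw [Quotient.smul_mk, smul_eq_mul, hpts, hpts, mul_inv_rev, mul_smul, inv_smul_smul]
  have hcard : ∀ b, #(pts b) = k := by
    intro b
    rw [hk, ← Set.ncard_coe_finset, ← Set.ncard_image_of_injective (orbit H a) (MulAction.injective b.out)]
    congr 1
    ext x
    simp only [pts, coe_filter, mem_univ, true_and, Set.mem_ofPred_eq]
    exact ⟨fun h => ⟨_, h, smul_inv_smul _ x⟩, fun ⟨z, hz, e⟩ => e ▸ by simpa using hz⟩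
  obtain ⟨D, hD, -⟩ := exists_design pts k heq hcard htrans h2''
    (by rw [← Nat.card_eq_fintype_card, ← Nat.card_eq_fintype_card, ← hidx]; rfl) hk2 hkn
  have hA : D.IsAut G := fun g x b => by rw [hD]; exact heq g x b
  have hfaith : ∀ g : G, (∀ x : Ω, g • x = x) → g = 1 := fun g hg =>
    FaithfulSMul.eq_of_smul_eq_smul fun x => by rw [hg x, one_smul]
  obtain ⟨A⟩ := exists_axial hA hfaith h2'' htrans ⟨((1 : G) : G ⧸ H), h₀, fun e => hh₀ (Subtype.ext e),
    fun x hx => by
      rw [hD, hpts, inv_one, one_smul] at hx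
      exact hfix₀ x hx⟩
  refine A.psl_normal ?_
  by_cases hl : 2 ≤ D.l
  · exact A.coordinates_of_two_le hl ((1 : G) : G ⧸ H)
  · exact A.coordinates_of_plane (by have := D.one_le_l; omega) h2''

end CfsgLib.AxialDesign
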