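import Cfsg.Agent.Lib.AxialDesign.Translations

/-!
# The vector space of translations of a block
-/

set_option autoImplicit false
set_option linter.unusedSectionVars false
set_option linter.style.haveILetI false

namespace CfsgLib.AxialDesign

open Finset MulAction

variable {P B : Type*} [Fintype P] [Fintype B] [DecidableEq P] [DecidableEq B]
variable {G : Type*} [Group G] [Finite G] [MulAction G P] [MulAction G B]

namespace Axial

variable {D : SD P B} (A : Axial G D) [hl : Fact (2 ≤ D.l)] (b : B)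

instance transCommGroup : CommGroup (A.T b) :=
  { (inferInstance : Group (A.T b)) with
    mul_comm := fun x y => Subtype.ext (A.T_comm hl.out x.2 y.2) }

/-- The translations, written additively. -/
abbrev V : Type _ := Additive (A.T b)

variable {b}

/-- The group element of a translation. -/
abbrev val (v : A.V b) : G := ((Additive.toMul v : A.T b) : G)

/-- The translation of a group element. -/
abbrev vmk (x : G) (hx : x ∈ A.T b) : A.V b := Additive.ofMul ⟨x, hx⟩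

theorem val_mem (v : A.V b) : A.val v ∈ A.T b := (Additive.toMul v).2

theorem val_injective {v w : A.V b} (h : A.val v = A.val w) : v = w :=
  Additive.toMul.injective (Subtype.ext h)

theorem val_add (v w : A.V b) : A.val (v + w) = A.val v * A.val w := rfl

theorem val_sub (v w : A.V b) : A.val (v - w) = A.val v * (A.val w)⁻¹ := by
  rw [sub_eq_add_neg, val_add]
  rfl

/-- The member of a block. -/
def HX (b c : B) : AddSubgroup (A.V b) where
  carrier := {v | A.val v ∈ A.stab b c}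
  add_mem' := fun hv hw => (A.stab b c).mul_mem hv hw
  zero_mem' := (A.stab b c).one_mem
  neg_mem' := fun hv => (A.stab b c).inv_mem hv

theorem mem_HX {b c : B} {v : A.V b} : v ∈ A.HX b c ↔ A.val v ∈ A.stab b c := Iff.rfl

theorem card_HX (b c : B) : Nat.card (A.HX b c) = Nat.card (A.stab b c) :=
  Nat.card_congr
    { toFun := fun v => ⟨A.val v.1, v.2⟩
      invFun := fun x => ⟨A.vmk x.1 x.2.1, x.2⟩
      left_inv := fun _ => rfl
      right_inv := fun _ => rfl }

theorem HX_eq_iff {b c d : B} (hc : b ≠ c) (hd : d ≠ b) :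
    A.HX b d = A.HX b c ↔ d ∈ orbit (A.T b) c := by
  constructor
  · intro h
    refine A.mem_orbit_of_stab_eq hc hd (SetLike.ext fun x => ?_)
    constructor <;> intro hx
    · exact (SetLike.ext_iff.1 h (A.vmk x hx.1)).1 hx
    · exact (SetLike.ext_iff.1 h (A.vmk x hx.1)).2 hx
  · intro h
    ext v
    rw [mem_HX, mem_HX, A.stab_of_mem_orbit h]

variable (b) in
/-- The family of members. -/
def HXs : Set (AddSubgroup (A.V b)) := {X | ∃ c, c ≠ b ∧ A.HX b c = X}

theorem fibre_count (S : Finset B) (hb : b ∉ S) (hcl : ∀ c ∈ S, ∀ x ∈ A.T b, x • c ∈ S) :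
    Set.ncard {X | ∃ c ∈ S, A.HX b c = X} * A.tt = #S := by
  classical
  rw [show {X | ∃ c ∈ S, A.HX b c = X} = ((S.image (A.HX b) : Finset _) : Set _) by ext; simp,
    Set.ncard_coe_finset, card_eq_sum_card_image (A.HX b) S, sum_congr rfl, sum_const, smul_eq_mul]
  intro X hX
  obtain ⟨c, hc, rfl⟩ := mem_image.1 hX
  have hcb : b ≠ c := fun e => hb (e ▸ hc)
  rw [← A.orbit_card hcb, ← Set.ncard_coe_finset]
  congr 1
  ext d
  simp only [coe_filter, Set.mem_ofPred_eq]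
  constructor
  · rintro ⟨hd, h⟩
    exact (A.HX_eq_iff hcb (fun e => hb (e ▸ hd))).1 h
  · intro h
    obtain ⟨x, hx, rfl⟩ := A.mem_orbit_iff.1 h
    exact ⟨hcl c hc x hx, (A.HX_eq_iff hcb (A.smul_ne_axis hx hcb.symm)).2 h⟩

theorem tt_pos {c : B} (hne : b ≠ c) : 0 < A.tt := by
  have := (A.params hne).2.2.2.1
  omega

variable (b) in
theorem exists_ne_block (_A : Axial G D) : ∃ c, c ≠ b := Fintype.exists_ne_of_one_lt_card
  (by rw [D.card_eq]; have := D.le_card; omega) b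

variable (b) in
theorem ncard_HXs : (A.HXs b).ncard = D.k := by
  obtain ⟨c, hc⟩ := A.exists_ne_block b
  refine Nat.eq_of_mul_eq_mul_right (A.tt_pos hc.symm) ?_
  rw [show A.HXs b = {X | ∃ c ∈ univ.erase b, A.HX b c = X} by ext; simp [HXs],
    A.fibre_count _ (by simp) (fun c hc x hx =>
      mem_erase.2 ⟨A.smul_ne_axis hx (ne_of_mem_erase hc), mem_univ _⟩),
    card_erase_of_mem (mem_univ b), card_univ, (A.params hc.symm).2.2.2.2.2]

theorem through_count {v : A.V b} (hv : v ≠ 0) : {X ∈ A.HXs b | v ∈ X}.ncard = D.l := by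
  classical
  obtain ⟨c, hc⟩ := A.exists_ne_block b
  refine Nat.eq_of_mul_eq_mul_right (A.tt_pos hc.symm) ?_
  have h1 : A.val v ≠ 1 := fun e => hv (A.val_injective e)
  rw [show {X ∈ A.HXs b | v ∈ X} = {X | ∃ c ∈ univ.filter (fun c => c ≠ b ∧ A.val v • c = c), A.HX b c = X} by
      ext X
      simp only [HXs, Set.mem_ofPred_eq, mem_filter, mem_univ, true_and]
      constructor
      · rintro ⟨⟨c, hc, rfl⟩, hv⟩
        exact ⟨c, ⟨hc, hv.2⟩, rfl⟩
      · rintro ⟨c, ⟨hc, hv⟩, rfl⟩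
        exact ⟨⟨c, hc, rfl⟩, A.val_mem v, hv⟩,
    A.fibre_count _ (by simp) (fun c hc x hx => by
      simp only [mem_filter, mem_univ, true_and] at hc ⊢
      exact ⟨A.smul_ne_axis hx hc.1, A.stab_fix_orbit ⟨A.val_mem v, hc.2⟩ hx⟩)]
  have hk := (A.params hc.symm).2.2.1
  rw [show univ.filter (fun c => c ≠ b ∧ A.val v • c = c) = (univ.filter fun c => A.val v • c = c).erase b by
      ext; simp,
    card_erase_of_mem (by simp [A.smul_axis (A.val_mem v)]), A.fix_blocks_card (A.val_mem v) h1]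
  omega

/-- The transvections of the translation space from the stabiliser of a block. -/
def PhiC {b c : B} (hne : b ≠ c) : AddSubgroup (A.V b →+ A.V b) where
  carrier := {f | ∃ g ∈ A.stab c b, ∀ v, A.val (f v) = cm (A.val v) g}
  add_mem' := by
    rintro f f' ⟨g, hg, h⟩ ⟨g', hg', h'⟩
    refine ⟨g * g', mul_mem hg hg', fun v => ?_⟩
    rw [A.cm_mul_right hl.out hne hg hg' (A.val_mem v), ← h v, ← h' v]
    rfl
  zero_mem' := ⟨1, one_mem _, fun v => by simp [cm]⟩
  neg_mem' := by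
    rintro f ⟨g, hg, h⟩
    refine ⟨g⁻¹, inv_mem hg, fun v => ?_⟩
    have hh := A.cm_mul_right hl.out hne hg (inv_mem hg) (A.val_mem v)
    rw [mul_inv_cancel, ← h v] at hh
    show (A.val (f v))⁻¹ = _
    refine inv_eq_of_mul_eq_one_right ?_
    rw [← hh]
    simp [cm]

theorem exists_phi {b c : B} (hne : b ≠ c) {g : G} (hg : g ∈ A.stab c b) :
    ∃ f ∈ A.PhiC hne, ∀ v, A.val (f v) = cm (A.val v) g :=
  ⟨AddMonoidHom.mk' (fun v => A.vmk (cm (A.val v) g) (A.comm_mem_stab hne hg (A.val_mem v)).1)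
    (fun v w => A.val_injective (A.cm_mul_left hl.out hne hg (A.val_mem v) (A.val_mem w))),
    ⟨g, hg, fun _ => rfl⟩, fun _ => rfl⟩

theorem map_HX {b c d : B} {g : G} (hg : g ∈ A.stab c b) {f : A.V b →+ A.V b}
    (hf : ∀ v, A.val (f v) = cm (A.val v) g) :
    (A.HX b d).map (AddMonoidHom.id (A.V b) + f) = A.HX b (g⁻¹ • d) := by
  have hgb : g • b = b := hg.2
  have hval : ∀ v, A.val ((AddMonoidHom.id (A.V b) + f) v) = g⁻¹ * A.val v * g := fun v => by
    show A.val v * A.val (f v) = _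
    rw [hf, cm]
    group
  ext w
  rw [AddSubgroup.mem_map]
  constructor
  · rintro ⟨v, hv, rfl⟩
    rw [mem_HX, hval]
    refine ⟨A.mem_T_of_conj hgb hv.1, ?_⟩
    show (g⁻¹ * A.val v * g) • g⁻¹ • d = g⁻¹ • d
    rw [mul_smul, smul_inv_smul, mul_smul, show A.val v • d = d from hv.2]
  · intro hw
    have h1 := A.equiv g b _ (A.val_mem w)
    rw [hgb] at h1
    refine ⟨A.vmk _ h1, ⟨h1, ?_⟩, A.val_injective ?_⟩
    · show (g * A.val w * g⁻¹) • d = d
      rw [mul_smul, mul_smul, show A.val w • g⁻¹ • d = g⁻¹ • d from hw.2, smul_inv_smul]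
    · rw [hval]
      show g⁻¹ * (g * A.val w * g⁻¹) * g = A.val w
      group

theorem inv_smul_ne {b c d : B} {g : G} (hg : g ∈ A.stab c b) (hd : d ≠ b) : g⁻¹ • d ≠ b := fun e =>
  hd (by rw [inv_smul_eq_iff] at e; rw [e]; exact hg.2)

open Classical in
/-- The transvections of a member. -/
noncomputable def Phi (X : AddSubgroup (A.V b)) : AddSubgroup (A.V b →+ A.V b) :=
  if h : ∃ c, b ≠ c ∧ A.HX b c = X then A.PhiC h.choose_spec.1 else ⊥

theorem Phi_spec {X : AddSubgroup (A.V b)} (hX : X ∈ A.HXs b) :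
    ∃ c, ∃ hne : b ≠ c, A.HX b c = X ∧ A.Phi X = A.PhiC hne := by
  obtain ⟨c, hc, hcX⟩ := hX
  have h : ∃ c, b ≠ c ∧ A.HX b c = X := ⟨c, hc.symm, hcX⟩
  exact ⟨_, h.choose_spec.1, h.choose_spec.2, by rw [Phi, dif_pos h]⟩

variable (b) in
/-- The translation space with its transvections. -/
noncomputable def ts : TS (A.V b) where
  H := (A.HXs b).toFinite.toFinset
  t := A.tt
  s := D.k - D.l
  l := D.l
  two_le_t := by
    obtain ⟨c, hc⟩ := A.exists_ne_block b
    exact (A.params hc.symm).2.2.2.1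
  t_lt_s := by
    obtain ⟨c, hc⟩ := A.exists_ne_block b
    obtain ⟨h1, h2, h3, h4, h5, h6⟩ := A.params hc.symm
    obtain ⟨t, ht⟩ : ∃ t, A.tt = t + 2 := ⟨A.tt - 2, by omega⟩
    have := hl.out
    rw [ht] at h3 ⊢
    rw [Nat.mul_add] at h3
    have : 2 * t ≤ D.l * t := Nat.mul_le_mul_right t hl.out
    omega
  card_V := by
    obtain ⟨c, hc⟩ := A.exists_ne_block b
    have h := (A.params hc.symm).2.1
    rw [A.card_stab hc.symm] at h
    exact (Nat.card_congr Additive.toMul).trans h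
  card_mem := fun X hX => by
    rw [Set.Finite.mem_toFinset] at hX
    obtain ⟨c, hc, rfl⟩ := hX
    rw [card_HX, A.card_stab hc.symm]
  card_through := fun v hv => by
    rw [Set.Finite.coe_toFinset]
    exact A.through_count hv
  one_le_l := D.one_le_l
  l_lt := by
    rw [← Set.ncard_eq_toFinset_card, A.ncard_HXs]
    exact D.l_lt
  sup := fun X hX Y hY hne v => by
    rw [Set.Finite.mem_toFinset] at hX hY
    obtain ⟨c, hc, rfl⟩ := hX
    obtain ⟨d, hd, rfl⟩ := hY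
    obtain ⟨u, hu, w, hw, huw⟩ := A.exists_mul hc.symm hd (fun e => hne (by
      ext x
      rw [mem_HX, mem_HX, e])) (A.val_mem v)
    exact ⟨A.vmk u hu.1, hu, A.vmk w hw.1, hw, A.val_injective huw⟩
  Φ := A.Phi
  ker := fun X hX f hf v hv => by
    rw [Set.Finite.mem_toFinset] at hX
    obtain ⟨c, hne, rfl, hP⟩ := A.Phi_spec hX
    obtain ⟨g, hg, h⟩ := hP ▸ hf
    refine A.val_injective ?_
    rw [h, cm, mul_assoc _ (A.val v) g, ← A.commute_stab hne hv hg]
    show _ = (1 : G)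
    group
  range := fun X hX f hf v => by
    rw [Set.Finite.mem_toFinset] at hX
    obtain ⟨c, hne, rfl, hP⟩ := A.Phi_spec hX
    obtain ⟨g, hg, h⟩ := hP ▸ hf
    rw [mem_HX, h]
    exact A.comm_mem_stab hne hg (A.val_mem v)
  ker_le := fun X hX f hf hf0 v hv => by
    rw [Set.Finite.mem_toFinset] at hX
    obtain ⟨c, hne, rfl, hP⟩ := A.Phi_spec hX
    obtain ⟨g, hg, h⟩ := hP ▸ hf
    refine ⟨A.val_mem v, ?_⟩
    show A.val v • c = c
    by_contra hvc
    have h1 := h v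
    rw [hv] at h1
    have hg1 : g = 1 := A.comm_injective hvc hg (one_mem _) (by
      rw [inv_one, mul_one, mul_one, inv_mul_cancel]
      exact h1.symm)
    refine hf0 (AddMonoidHom.ext fun w => A.val_injective ?_)
    rw [h w, hg1]
    simp only [cm, inv_one, mul_one, inv_mul_cancel]
    rfl
  surj := fun X hX v hv y hy => by
    rw [Set.Finite.mem_toFinset] at hX
    obtain ⟨c, hne, rfl, hP⟩ := A.Phi_spec hX
    obtain ⟨g, hg, hgy⟩ := A.cm_surj hne (A.val_mem v) (fun e => hv ⟨A.val_mem v, e⟩) hy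
    obtain ⟨f, hf, h⟩ := A.exists_phi hne hg
    exact ⟨f, hP ▸ hf, A.val_injective ((h v).trans hgy)⟩
  perm := fun X hX f hf Z hZ => by
    rw [Set.Finite.mem_toFinset] at hX hZ ⊢
    obtain ⟨c, hne, rfl, hP⟩ := A.Phi_spec hX
    obtain ⟨g, hg, h⟩ := hP ▸ hf
    obtain ⟨d, hd, rfl⟩ := hZ
    exact ⟨_, A.inv_smul_ne hg hd, (A.map_HX hg h).symm⟩
  invariant := fun X hX f hf => by
    classical
    rw [Set.Finite.mem_toFinset] at hX
    rw [Set.Finite.coe_toFinset]
    obtain ⟨c, hne, rfl, hP⟩ := A.Phi_spec hX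
    obtain ⟨g, hg, h⟩ := hP ▸ hf
    have hk := A.keep_many hne (inv_mem hg)
    rw [nkeep] at hk
    set S := (univ.erase b).filter fun d => ∃ x ∈ A.T b, x • d = g⁻¹ • d with hS
    have hfib : #S ≤ A.tt * #(S.image (A.HX b)) := by
      refine card_le_mul_card_image S A.tt fun Y hY => ?_
      obtain ⟨d, hd, rfl⟩ := mem_image.1 hY
      have hdb : b ≠ d := (ne_of_mem_erase (mem_filter.1 hd).1).symm
      rw [← A.orbit_card hdb, ← Set.ncard_coe_finset]
      refine Set.ncard_le_ncard (fun e he => ?_) (Set.toFinite _)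
      obtain ⟨he1, he2⟩ := mem_filter.1 he
      exact (A.HX_eq_iff hdb (ne_of_mem_erase (mem_filter.1 he1).1)).1 he2
    refine le_trans (Nat.le_of_mul_le_mul_left (hk.trans hfib) (A.tt_pos hne)) ?_
    rw [← Set.ncard_coe_finset]
    refine Set.ncard_le_ncard (fun Y hY => ?_) (Set.toFinite _)
    obtain ⟨d, hd, rfl⟩ := mem_image.1 hY
    obtain ⟨hd1, x, hx, hxd⟩ := mem_filter.1 hd
    have hdb : b ≠ d := (ne_of_mem_erase hd1).symm
    refine ⟨⟨d, hdb.symm, rfl⟩, ?_⟩
    rw [A.map_HX hg h]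
    refine (A.HX_eq_iff hdb (A.inv_smul_ne hg hdb.symm)).2 (A.mem_orbit_iff.2 ⟨x, hx, hxd⟩)

theorem mem_ts {X : AddSubgroup (A.V b)} : X ∈ (A.ts b).H ↔ X ∈ A.HXs b := Set.Finite.mem_toFinset _

/-- The vector of a point of the block. -/
theorem exists_vec {x : P} (hx : x ∈ D.pts b) :
    ∃ v : A.V b, v ≠ 0 ∧ ∀ c, c ≠ b → (x ∈ D.pts c ↔ v ∈ A.HX b c) := by
  classical
  obtain ⟨c₀, hc₀⟩ := A.exists_ne_block b
  set S : Finset B := (univ.filter fun c => x ∈ D.pts c).erase b with hS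
  have hmem : ∀ c, c ∈ S ↔ c ≠ b ∧ x ∈ D.pts c := fun c => by simp [hS]
  have hcl : ∀ c ∈ S, ∀ y ∈ A.T b, y • c ∈ S := fun c hc y hy => (hmem _).2
    ⟨A.smul_ne_axis hy ((hmem c).1 hc).1, by
      rw [← A.fix b y hy x hx]
      exact (A.aut y x c).2 ((hmem c).1 hc).2⟩
  have hback : ∀ c, c ≠ b → A.HX b c ∈ {X | ∃ d ∈ S, A.HX b d = X} → c ∈ S := by
    rintro c hc ⟨d, hd, h⟩
    obtain ⟨y, hy, rfl⟩ := A.mem_orbit_iff.1 ((A.HX_eq_iff ((hmem d).1 hd).1.symm hc).1 h.symm)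
    exact hcl d hd y hy
  obtain ⟨v, hv0, hv⟩ := (A.ts b).exists_common (S := {X | ∃ c ∈ S, A.HX b c = X})
    (fun X ⟨c, hc, hX⟩ => A.mem_ts.2 ⟨c, ((hmem c).1 hc).1, hX⟩)
    (by
      refine Nat.eq_of_mul_eq_mul_right (A.tt_pos hc₀.symm) ?_
      rw [A.fibre_count S (by simp [hS]) hcl, hS, card_erase_of_mem (by simp [hx]), D.card_thru]
      show _ = D.l * A.tt
      have := (A.params hc₀.symm).2.2.1
      omega)
    (by
      rintro X ⟨c, hc, rfl⟩ Z ⟨d, hd, rfl⟩ f hf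
      obtain ⟨c', hne, hc', hP⟩ := A.Phi_spec (X := A.HX b c) ⟨c, ((hmem c).1 hc).1, rfl⟩
      obtain ⟨g, hg, h⟩ : f ∈ A.PhiC hne := hP ▸ hf
      have hxc' := ((hmem c').1 (hback c' hne.symm ⟨c, hc, hc'.symm⟩)).2
      refine ⟨g⁻¹ • d, (hmem _).2 ⟨A.inv_smul_ne hg ((hmem d).1 hd).1, ?_⟩, (A.map_HX hg h).symm⟩
      rw [← A.fix c' g⁻¹ (inv_mem hg.1) x hxc']
      exact (A.aut g⁻¹ x d).2 ((hmem d).1 hd).2)
  refine ⟨v, hv0, fun c hc => ⟨fun h => ?_, fun h => ?_⟩⟩
  · exact (hv _ (A.mem_ts.2 ⟨c, hc, rfl⟩)).1 ⟨c, (hmem c).2 ⟨hc, h⟩, rfl⟩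
  · exact ((hmem c).1 (hback c hc ((hv _ (A.mem_ts.2 ⟨c, hc, rfl⟩)).2 h))).2

end Axial

end CfsgLib.AxialDesign
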