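import Cfsg.Agent.Lib.AxialDesign.Axial
import Cfsg.Agent.Lib.AxialDesign.Field
import Cfsg.Agent.Lib.OstromWagner.Orbit

/-!
# The axial group of a block as a group of translations
-/

set_option autoImplicit false
set_option linter.unusedSectionVars false

namespace CfsgLib.AxialDesign

open Finset MulAction

variable {P B : Type*} [Fintype P] [Fintype B] [DecidableEq P] [DecidableEq B]
variable {G : Type*} [Group G] [Finite G] [MulAction G P] [MulAction G B]

namespace Axial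

variable {D : SD P B} (A : Axial G D)

/-- The common orbit length on blocks. -/
def tt (_A : Axial G D) : ℕ := (D.k - 1) / D.l

theorem params {b c : B} (hne : b ≠ c) :
    Nat.card (A.stab b c) + D.l = D.k ∧ Nat.card (A.T b) = Nat.card (A.stab b c) * A.tt ∧
      D.k = D.l * A.tt + 1 ∧ 2 ≤ A.tt ∧
      Fintype.card P = D.k + Nat.card (A.T b) ∧ Fintype.card B - 1 = D.k * A.tt := by
  obtain ⟨h1, h2⟩ := A.regular hne
  have h3 := A.card_T_eq b hne
  have h4 := A.two_le_stab hne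
  obtain ⟨t, ht⟩ : Nat.card (A.stab b c) ∣ Nat.card (A.T b) := Subgroup.card_dvd_of_le inf_le_left
  have hl := D.one_le_l
  have hk : D.k = D.l * t + 1 := by
    rw [ht] at h3
    have h5 : Nat.card (A.stab b c) * (D.l * t + 1) = Nat.card (A.stab b c) * D.k := by
      linarith
    exact (Nat.eq_of_mul_eq_mul_left (by omega) h5).symm
  have htt : A.tt = t := by rw [tt, hk, Nat.add_sub_cancel, Nat.mul_div_cancel_left _ hl]
  have ht2 : 2 ≤ t := by
    rcases Nat.lt_or_ge t 2 with h | h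
    · exfalso
      interval_cases t <;> omega
    · exact h
  refine ⟨h1, htt ▸ ht, htt ▸ hk, htt ▸ ht2, by omega, ?_⟩
  rw [htt, D.card_eq, ← h2, ht]
  have : Nat.card (A.stab b c) * t + D.k = D.k * t + 1 := by
    rw [show D.k * t = Nat.card (A.stab b c) * t + D.l * t by rw [← h1, Nat.add_mul]]
    omega
  omega

theorem card_stab {b c : B} (hne : b ≠ c) : Nat.card (A.stab b c) = D.k - D.l := by
  have := (A.params hne).1
  omega

theorem orbit_card {b c : B} (hne : b ≠ c) : (orbit (A.T b) c).ncard = A.tt := by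
  have h := CfsgLib.OstromWagner.ncard_orbit_mul (A.T b) c
  have hs : A.T b ⊓ stabilizer G c = A.stab b c := rfl
  rw [hs, (A.params hne).2.1, mul_comm (Nat.card _)] at h
  exact Nat.eq_of_mul_eq_mul_right Nat.card_pos h

theorem mem_orbit_iff {b c d : B} : d ∈ orbit (A.T b) c ↔ ∃ x ∈ A.T b, x • c = d :=
  ⟨fun ⟨x, hx⟩ => ⟨x, x.2, hx⟩, fun ⟨x, hx, h⟩ => ⟨⟨x, hx⟩, h⟩⟩

theorem stab_of_mem_orbit {b c d : B} (h : d ∈ orbit (A.T b) c) : A.stab b d = A.stab b c := by
  obtain ⟨x, hx, rfl⟩ := A.mem_orbit_iff.1 h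
  exact A.stab_orbit hx

theorem sub_orbit {b c d : B} (hne : b ≠ c) :
    Nat.card (A.stab b c) ≤ A.tt * Nat.card (A.stab b c ⊓ stabilizer G d : Subgroup G) ∨ d = b := by
  by_cases hd : d = b
  · exact Or.inr hd
  refine Or.inl ?_
  rw [← CfsgLib.OstromWagner.ncard_orbit_mul (A.stab b c) d]
  refine Nat.mul_le_mul_right _ ?_
  rw [← A.orbit_card (b := b) (c := d) (Ne.symm hd)]
  refine Set.ncard_le_ncard ?_ (Set.toFinite _)
  rintro _ ⟨x, rfl⟩
  exact ⟨⟨x, x.2.1⟩, rfl⟩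

theorem inter_card {b c d : B} (hne : b ≠ c) (hd : d ≠ b) (hdc : d ∉ orbit (A.T b) c) :
    A.tt * Nat.card (A.stab b c ⊓ stabilizer G d : Subgroup G) = Nat.card (A.stab b c) := by
  classical
  obtain ⟨h1, h2, h3, h4, h5, h6⟩ := A.params hne
  set s := Nat.card (A.stab b c) with hs
  set f : B → ℕ := fun e => A.tt * Nat.card (A.stab b c ⊓ stabilizer G e : Subgroup G)
  set g : B → ℕ := fun e => if e ∈ orbit (A.T b) c then A.tt * s else s
  have hle : ∀ e ∈ univ.erase b, g e ≤ f e := by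
    intro e he
    simp only [g, f]
    split_ifs with h
    · refine Nat.mul_le_mul_left _ (Subgroup.card_le_of_le fun x hx => ⟨hx, ?_⟩)
      have := A.stab_of_mem_orbit h ▸ hx
      exact this.2
    · exact (A.sub_orbit hne).resolve_right (ne_of_mem_erase he)
  have hcard : #((univ.erase b).filter fun e => e ∈ orbit (A.T b) c) = A.tt := by
    rw [← A.orbit_card hne, ← Set.ncard_coe_finset]
    congr 1
    ext e
    simp only [coe_filter, mem_erase, mem_univ, and_true, Set.mem_ofPred_eq, and_iff_right_iff_imp]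
    intro he
    obtain ⟨x, hx, rfl⟩ := A.mem_orbit_iff.1 he
    exact A.smul_ne_axis hx hne.symm
  have hF : ∑ e ∈ univ.erase b, f e = A.tt * (Fintype.card B - 1 + (s - 1) * (D.k - 1)) := by
    rw [← A.sum_card_inter b (S := A.stab b c) inf_le_left, mul_sum]
  have hG : ∑ e ∈ univ.erase b, g e = A.tt * (A.tt * s) + (D.k * A.tt - A.tt) * s := by
    rw [sum_ite, sum_const, sum_const, smul_eq_mul, smul_eq_mul, hcard,
      filter_not, card_sdiff_of_subset (filter_subset _ _), hcard, card_erase_of_mem (mem_univ b), card_univ, h6]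
  have heq : ∑ e ∈ univ.erase b, g e = ∑ e ∈ univ.erase b, f e := by
    rw [hF, hG, h6, h3]
    obtain ⟨s', hs'⟩ : ∃ s', s = s' + 1 := ⟨s - 1, by have := A.two_le_stab hne; omega⟩
    rw [h3] at h1
    have h7 : (D.l * A.tt + 1) * A.tt - A.tt = D.l * A.tt * A.tt := by rw [add_mul, one_mul, Nat.add_sub_cancel]
    rw [h7, hs', Nat.add_sub_cancel, Nat.add_sub_cancel]
    rw [hs'] at h1
    zify at h1 ⊢
    linear_combination (A.tt : ℤ) * A.tt * h1
  have := (sum_eq_sum_iff_of_le hle).1 heq d (mem_erase.2 ⟨hd, mem_univ d⟩)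
  simp only [g, f, if_neg hdc] at this
  exact this.symm

theorem mem_orbit_of_stab_eq {b c d : B} (hne : b ≠ c) (hd : d ≠ b) (h : A.stab b d = A.stab b c) :
    d ∈ orbit (A.T b) c := by
  by_contra hdc
  have h1 := A.inter_card hne hd hdc
  rw [show A.stab b c ⊓ stabilizer G d = A.stab b c from inf_eq_left.2 (h ▸ inf_le_right)] at h1
  have h2 := (A.params hne).2.2.2.1
  have h3 : 0 < Nat.card (A.stab b c) := Nat.card_pos
  nlinarith

theorem exists_mul {b c d : B} (hne : b ≠ c) (hd : d ≠ b) (hdc : A.stab b d ≠ A.stab b c) {x : G}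
    (hx : x ∈ A.T b) : ∃ u ∈ A.stab b c, ∃ v ∈ A.stab b d, x = u * v := by
  have hnot : d ∉ orbit (A.T b) c := fun h => hdc (A.stab_of_mem_orbit h)
  have hsub : orbit (A.stab b c) d ⊆ orbit (A.T b) d := by
    rintro _ ⟨y, rfl⟩
    exact ⟨⟨y, y.2.1⟩, rfl⟩
  have heq : orbit (A.stab b c) d = orbit (A.T b) d := by
    refine Set.eq_of_subset_of_ncard_le hsub (le_of_eq ?_) (Set.toFinite _)
    rw [A.orbit_card (Ne.symm hd)]
    refine Nat.eq_of_mul_eq_mul_right (m := Nat.card (A.stab b c ⊓ stabilizer G d : Subgroup G)) Nat.card_pos ?_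
    rw [A.inter_card hne hd hnot, CfsgLib.OstromWagner.ncard_orbit_mul]
  obtain ⟨u, hu⟩ : x • d ∈ orbit (A.stab b c) d := heq ▸ A.mem_orbit_iff.2 ⟨x, hx, rfl⟩
  refine ⟨u, u.2, (u : G)⁻¹ * x, ⟨(A.T b).mul_mem ((A.T b).inv_mem u.2.1) hx, ?_⟩, (mul_inv_cancel_left _ _).symm⟩
  show ((u : G)⁻¹ * x) • d = d
  rw [mul_smul, inv_smul_eq_iff]
  exact hu.symm

/-- The twisting commutator. -/
def cm (x g : G) : G := x⁻¹ * g⁻¹ * x * g

theorem exists_moving {b c : B} (hne : b ≠ c) : ∃ x ∈ A.T b, x • c ≠ c := by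
  by_contra hc
  push Not at hc
  obtain ⟨-, h2, -, h4, -, -⟩ := A.params hne
  have hle : A.T b ≤ A.stab b c := fun x hx => ⟨hx, hc x hx⟩
  have := Subgroup.card_le_of_le hle
  have h0 : 0 < Nat.card (A.stab b c) := Nat.card_pos
  nlinarith

theorem cm_surj {b c : B} (hne : b ≠ c) {x : G} (hx : x ∈ A.T b) (hxc : x • c ≠ c) {y : G}
    (hy : y ∈ A.stab b c) : ∃ g ∈ A.stab c b, cm x g = y := by
  let f : A.stab c b → A.stab b c := fun g => ⟨cm x g, A.comm_mem_stab hne g.2 hx⟩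
  have hf : Function.Bijective f := (Nat.bijective_iff_injective_and_card f).2
    ⟨fun g g' h => Subtype.ext (A.comm_injective hxc g.2 g'.2 (congrArg Subtype.val h)),
      A.card_stab_eq hne.symm hne⟩
  obtain ⟨g, hg⟩ := hf.2 ⟨y, hy⟩
  exact ⟨g, g.2, congrArg Subtype.val hg⟩

theorem stab_comm {b c : B} (hne : b ≠ c) {y y' : G} (hy : y ∈ A.stab b c) (hy' : y' ∈ A.stab b c) :
    y * y' = y' * y := by
  obtain ⟨x, hx, hxc⟩ := A.exists_moving hne
  obtain ⟨g, hg, hgy⟩ := A.cm_surj hne hx hxc hy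
  have hy'' : x * y' * x⁻¹ ∈ A.stab b c := by
    refine ⟨(A.T b).mul_mem ((A.T b).mul_mem hx hy'.1) ((A.T b).inv_mem hx), ?_⟩
    show (x * y' * x⁻¹) • c = c
    rw [mul_smul, mul_smul, A.stab_fix_orbit hy' (inv_mem hx), smul_inv_smul]
  have h1 := A.commute_stab hne hy'' hg
  have h2 := A.commute_stab hne hy' hg
  have e : y' * cm x g = cm x g * y' := by
    calc y' * (x⁻¹ * g⁻¹ * x * g)
        = x⁻¹ * (x * y' * x⁻¹) * g⁻¹ * x * g := by group
      _ = x⁻¹ * g⁻¹ * (g * (x * y' * x⁻¹)) * g⁻¹ * x * g := by group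
      _ = x⁻¹ * g⁻¹ * ((x * y' * x⁻¹) * g) * g⁻¹ * x * g := by rw [h1]
      _ = x⁻¹ * g⁻¹ * x * (y' * g) := by group
      _ = x⁻¹ * g⁻¹ * x * (g * y') := by rw [h2]
      _ = x⁻¹ * g⁻¹ * x * g * y' := by group
  rw [← hgy]
  exact e.symm

theorem T_comm (hl : 2 ≤ D.l) {b : B} {y y' : G} (hy : y ∈ A.T b) (hy' : y' ∈ A.T b) : y * y' = y' * y := by
  classical
  by_cases hy1 : y = 1
  · rw [hy1, one_mul, mul_one]
  have hF := A.fix_blocks_card hy hy1
  obtain ⟨c, hc⟩ : ∃ c, c ∈ (univ.filter fun e : B => y • e = e).erase b := by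
    refine card_pos.1 ?_
    rw [card_erase_of_mem (by simp [A.smul_axis hy]), hF]
    have := D.two_le
    omega
  simp only [mem_erase, mem_filter, mem_univ, true_and] at hc
  have hne : b ≠ c := Ne.symm hc.1
  obtain ⟨h1, h2, h3, h4, h5, h6⟩ := A.params hne
  obtain ⟨d, hd, hdc⟩ : ∃ d ∈ (univ.filter fun e : B => y • e = e).erase b, d ∉ orbit (A.T b) c := by
    by_contra hcon
    push Not at hcon
    have h7 : #((univ.filter fun e : B => y • e = e).erase b) ≤ A.tt := by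
      rw [← A.orbit_card hne, ← Set.ncard_coe_finset]
      exact Set.ncard_le_ncard (fun e he => hcon e he) (Set.toFinite _)
    rw [card_erase_of_mem (by simp [A.smul_axis hy]), hF, h3, Nat.add_sub_cancel] at h7
    nlinarith
  simp only [mem_erase, mem_filter, mem_univ, true_and] at hd
  obtain ⟨u, hu, v, hv, rfl⟩ := A.exists_mul hne hd.1
    (fun h => hdc (A.mem_orbit_of_stab_eq hne hd.1 h)) hy'
  have e1 := A.stab_comm hne ⟨hy, hc.2⟩ hu
  have e2 := A.stab_comm (Ne.symm hd.1) ⟨hy, hd.2⟩ hv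
  rw [← mul_assoc, e1, mul_assoc, e2, mul_assoc]

theorem cm_mul_left (hl : 2 ≤ D.l) {b c : B} (hne : b ≠ c) {g x y : G} (hg : g ∈ A.stab c b)
    (hx : x ∈ A.T b) (hy : y ∈ A.T b) : cm (x * y) g = cm x g * cm y g := by
  have hc := A.T_comm hl (A.comm_mem_stab hne hg hx).1 (inv_mem hy)
  show (x * y)⁻¹ * g⁻¹ * (x * y) * g = (x⁻¹ * g⁻¹ * x * g) * (y⁻¹ * g⁻¹ * y * g)
  calc (x * y)⁻¹ * g⁻¹ * (x * y) * g = y⁻¹ * (x⁻¹ * g⁻¹ * x * g) * g⁻¹ * y * g := by group
    _ = (x⁻¹ * g⁻¹ * x * g) * y⁻¹ * g⁻¹ * y * g := by rw [hc]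
    _ = _ := by group

theorem cm_mul_right (hl : 2 ≤ D.l) {b c : B} (hne : b ≠ c) {g g' x : G} (hg : g ∈ A.stab c b)
    (hg' : g' ∈ A.stab c b) (hx : x ∈ A.T b) : cm x (g * g') = cm x g * cm x g' := by
  have h := A.commute_stab hne (A.comm_mem_stab hne hg hx) hg'
  have hc := A.T_comm hl (A.comm_mem_stab hne hg hx).1 (A.comm_mem_stab hne hg' hx).1
  show x⁻¹ * (g * g')⁻¹ * x * (g * g') = (x⁻¹ * g⁻¹ * x * g) * (x⁻¹ * g'⁻¹ * x * g')
  rw [hc]
  calc x⁻¹ * (g * g')⁻¹ * x * (g * g') = x⁻¹ * g'⁻¹ * x * ((x⁻¹ * g⁻¹ * x * g) * g') := by group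
    _ = x⁻¹ * g'⁻¹ * x * (g' * (x⁻¹ * g⁻¹ * x * g)) := by rw [h]
    _ = _ := by group

theorem keep_many {b c : B} (hne : b ≠ c) {g : G} (hg : g ∈ A.stab c b) : A.tt * D.l ≤ A.nkeep b g := by
  cases nonempty_fintype G
  obtain ⟨h1, h2, h3, h4, h5, h6⟩ := A.params hne
  have h := A.nkeep_lower hne hg
  rw [show D.k - D.l = Nat.card (A.stab b c) by omega, h2] at h
  have h0 : 0 < Nat.card (A.stab b c) * Nat.card (A.stab b c) := Nat.mul_pos Nat.card_pos Nat.card_pos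
  refine Nat.le_of_mul_le_mul_left ?_ h0
  nlinarith

end Axial

end CfsgLib.AxialDesign
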